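import Groth.Agent.Sga3.H813.ConjToBy
import Groth.Agent.Agf.H583.EtConj
import Groth.Agent.Sga3.H665.TorBcNA

/-!
# Lifting along monomorphisms and conjugacy are local questions
-/

set_option autoImplicit false

universe u

open CategoryTheory MonoidalCategory CartesianMonoidalCategory MonObj GrpObj AlgebraicGeometry Limits

namespace Groth.Agent.Sga3.H812.Loc

open Groth.Agent.Sga3B Groth.Agent.Sga3B.BcPts Groth.Agent.Sga3B.MT Groth.Agent.Sga3B.Parab
open Groth.Agent.Redsub.H649.ConjPts Groth.Agent.Redsub.H649.ConjLoc Groth.Agent.Sga3.H813.RepCrit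

section lift

variable {S : Scheme.{u}} {T G X : Over S}

lemma exists_lift_of_epi (i : T ⟶ G) [Mono i] (k : X ⟶ G) {X' : Scheme.{u}} (c : X' ⟶ X.left) [Flat c]
    [Surjective c] [LocallyOfFinitePresentation c] (p : X' ⟶ T.left) (hp : p ≫ i.left = c ≫ k.left) :
    ∃ z : X ⟶ T, z ≫ i = k := by
  have hm : Mono i.left := inferInstance
  have hc : Epi c := Flat.epi_of_flat_of_surjective c
  have h1 : ∀ {Z : Scheme.{u}} (g₁ g₂ : Z ⟶ X'), g₁ ≫ c = g₂ ≫ c → g₁ ≫ p = g₂ ≫ p := by
    intro Z g₁ g₂ hg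
    rw [← cancel_mono i.left, Category.assoc, Category.assoc, hp, ← Category.assoc, hg, Category.assoc]
  have h2 : EffectiveEpi.desc c p h1 ≫ i.left = k.left := by
    rw [← cancel_epi c, ← Category.assoc, EffectiveEpi.fac, hp]
  refine ⟨Over.homMk (EffectiveEpi.desc c p h1) ?_, ?_⟩
  · rw [← Over.w i, ← Category.assoc, h2, Over.w]
  · ext1
    exact h2

/-- a family of open immersions covering `X` -/
lemma surjective_desc {X : Scheme.{u}} {U : X → Scheme.{u}} (u : ∀ x, U x ⟶ X) (hu : ∀ x, x ∈ Set.range (u x)) :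
    Surjective (Sigma.desc u) := by
  refine ⟨fun x => ?_⟩
  obtain ⟨y, hy⟩ := hu x
  refine ⟨Sigma.ι U x y, ?_⟩
  rw [← Scheme.Hom.comp_apply, Sigma.ι_desc]
  exact hy

/-- Factoring through a monomorphism is a local question. -/
theorem exists_lift_of_local (i : T ⟶ G) [Mono i] (k : X ⟶ G)
    (H : ∀ x : X.left, ∃ (U : Over S) (u : U ⟶ X), IsOpenImmersion u.left ∧ x ∈ Set.range u.left ∧
      ∃ z : U ⟶ T, z ≫ i = u ≫ k) : ∃ z : X ⟶ T, z ≫ i = k := by
  choose U u hu hx z hz using H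
  have h1 : Surjective (Sigma.desc fun x => (u x).left) := surjective_desc _ hx
  have h2 : Flat (Sigma.desc fun x => (u x).left) := IsZariskiLocalAtSource.sigmaDesc fun x => inferInstance
  have h3 : LocallyOfFinitePresentation (Sigma.desc fun x => (u x).left) :=
    IsZariskiLocalAtSource.sigmaDesc fun x => inferInstance
  refine exists_lift_of_epi i k (Sigma.desc fun x => (u x).left) (Sigma.desc fun x => (z x).left) ?_
  apply Sigma.hom_ext
  intro x
  rw [← Category.assoc, ← Category.assoc, Sigma.ι_desc, Sigma.ι_desc]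
  exact congrArg (fun k => k.left) (hz x)

end lift

section InC

variable {S : Scheme.{u}} {T G X : Over S} [GrpObj G]

lemma InC.of_local (i : T ⟶ G) [Mono i] {a γ : X ⟶ G}
    (H : ∀ x : X.left, ∃ (U : Over S) (u : U ⟶ X), IsOpenImmersion u.left ∧ x ∈ Set.range u.left ∧
      InC i (u ≫ a) (u ≫ γ)) : InC i a γ := by
  refine exists_lift_of_local i _ fun x => ?_
  obtain ⟨U, u, h1, h2, z, hz⟩ := H x
  refine ⟨U, u, h1, h2, z, ?_⟩
  rw [hz]
  simp only [MonObj.comp_mul, GrpObj.comp_inv]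

end InC

section Pt

variable {S S' : Scheme.{u}} {f : S' ⟶ S} {G : Over S}

lemma Pt.of_local {H : Over S'} {h : H ⟶ Red.bc f G} [Mono h] {X : Scheme.{u}} {y : X ⟶ S'} {γ : X ⟶ G.left}
    (w : γ ≫ G.hom = y ≫ f)
    (hloc : ∀ x : X, ∃ (U : Scheme.{u}) (u : U ⟶ X), IsOpenImmersion u ∧ x ∈ Set.range u ∧
      Pt h (u ≫ y) (u ≫ γ)) : Pt h y γ := by
  choose U u hu hx p hp1 hp2 using hloc
  have h1 : Surjective (Sigma.desc u) := surjective_desc _ hx
  have h2 : Flat (Sigma.desc u) := IsZariskiLocalAtSource.sigmaDesc fun x => inferInstance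
  have h3 : LocallyOfFinitePresentation (Sigma.desc u) :=
    IsZariskiLocalAtSource.sigmaDesc fun x => inferInstance
  refine Pt.of_cover (Sigma.desc u) w ⟨Sigma.desc p, ?_, ?_⟩
  · apply Sigma.hom_ext
    intro x
    rw [← Category.assoc, ← Category.assoc, Sigma.ι_desc, Sigma.ι_desc]
    exact hp1 x
  · apply Sigma.hom_ext
    intro x
    rw [← Category.assoc (Sigma.ι U x) (Sigma.desc p), ← Category.assoc (Sigma.ι U x) (Sigma.desc u),
      Sigma.ι_desc, Sigma.ι_desc]
    exact hp2 x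

/-- **Gluing of conjugating elements.** -/
theorem exists_conjTo_of_local [GrpObj G] {T : Over S} (i : T ⟶ G) [Mono i] {T' : Over S'} (i' : T' ⟶ Red.bc f G)
    [Mono i']
    (H : ∀ s : S', ∃ (W : Scheme.{u}) (c : W ⟶ S') (_ : Flat c) (_ : LocallyOfFinitePresentation c)
      (_ : s ∈ Set.range c) (g : Over.mk (c ≫ f) ⟶ G), ConjTo i i' c g) :
    ∃ (S'' : Scheme.{u}) (c : S'' ⟶ S') (_ : Flat c) (_ : Surjective c)
        (_ : LocallyOfFinitePresentation c) (g : Over.mk (c ≫ f) ⟶ G), ConjTo i i' c g := by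
  choose W c h1 h2 h3 g hg using H
  have e1 : Flat (Sigma.desc c) := IsZariskiLocalAtSource.sigmaDesc fun x => inferInstance
  have e2 : LocallyOfFinitePresentation (Sigma.desc c) :=
    IsZariskiLocalAtSource.sigmaDesc fun x => inferInstance
  have e3 : Surjective (Sigma.desc c) := surjective_desc _ h3
  let g' : Over.mk (Sigma.desc c ≫ f) ⟶ G := Over.homMk (Sigma.desc fun s => (g s).left) (by
    apply Sigma.hom_ext
    intro s
    change Sigma.ι W s ≫ _ ≫ G.hom = Sigma.ι W s ≫ Sigma.desc c ≫ f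
    rw [← Category.assoc, ← Category.assoc, Sigma.ι_desc, Sigma.ι_desc]
    exact Over.w (g s))
  refine ⟨∐ W, Sigma.desc c, e1, e3, e2, g', fun X a γ => ?_⟩
  have hX : a.left ≫ Sigma.desc c ≫ f = X.hom := Over.w a
  -- the pieces of `X`
  have key : ∀ x : X.left, ∃ (U : Over S) (u : U ⟶ X), IsOpenImmersion u.left ∧ x ∈ Set.range u.left ∧
      (InC i (u ≫ a ≫ g') (u ≫ γ) ↔ Pt i' (u.left ≫ a.left ≫ Sigma.desc c) (u.left ≫ γ.left)) := by
    intro x
    obtain ⟨s, y, hy⟩ := (sigmaOpenCover W).exists_eq (a.left x)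
    obtain ⟨z, hz1, hz2⟩ := Scheme.Pullback.exists_preimage_pullback (f := a.left) (g := Sigma.ι W s) x y hy.symm
    let U : Over S := Over.mk (pullback.fst a.left (Sigma.ι W s) ≫ X.hom)
    let u : U ⟶ X := Over.homMk (pullback.fst a.left (Sigma.ι W s)) rfl
    have hc : pullback.fst a.left (Sigma.ι W s) ≫ a.left = pullback.snd a.left (Sigma.ι W s) ≫ Sigma.ι W s :=
      pullback.condition
    let b : U ⟶ Over.mk (c s ≫ f) := Over.homMk (pullback.snd a.left (Sigma.ι W s)) (by
      change pullback.snd a.left (Sigma.ι W s) ≫ c s ≫ f = pullback.fst a.left (Sigma.ι W s) ≫ X.hom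
      rw [← hX, ← Category.assoc (pullback.fst _ _), hc, Category.assoc, ← Category.assoc (Sigma.ι W s),
        Sigma.ι_desc])
    have e4 : u ≫ a ≫ g' = b ≫ g s := by
      ext1
      change pullback.fst a.left (Sigma.ι W s) ≫ a.left ≫ Sigma.desc (fun s => (g s).left) =
        pullback.snd a.left (Sigma.ι W s) ≫ (g s).left
      rw [← Category.assoc, hc, Category.assoc, Sigma.ι_desc]
    have e5 : u.left ≫ a.left ≫ Sigma.desc c = b.left ≫ c s := by
      change pullback.fst a.left (Sigma.ι W s) ≫ a.left ≫ Sigma.desc c =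
        pullback.snd a.left (Sigma.ι W s) ≫ c s
      rw [← Category.assoc, hc, Category.assoc, Sigma.ι_desc]
    refine ⟨U, u, ?_, ⟨z, hz1⟩, ?_⟩
    · change IsOpenImmersion (pullback.fst a.left (Sigma.ι W s))
      infer_instance
    · rw [e4, e5]
      exact hg s U b (u ≫ γ)
  constructor
  · intro h
    refine Pt.of_local ?_ fun x => ?_
    · rw [Over.w γ, ← hX, Category.assoc]
    · obtain ⟨U, u, h4, h5, h6⟩ := key x
      exact ⟨U.left, u.left, h4, h5, h6.1 (InC.comp i h u)⟩
  · intro h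
    refine InC.of_local i fun x => ?_
    obtain ⟨U, u, h4, h5, h6⟩ := key x
    exact ⟨U, u, h4, h5, h6.2 (Pt.comp u.left h)⟩

end Pt

section Conj

open Groth.Agent.Agf.H583

variable {S S' : Scheme.{u}} {f : S' ⟶ S} {G : Over S} [GrpObj G]

/-- **Maximal tori of a smooth affine group are conjugate after a flat surjective base change locally of finite
presentation.** -/
theorem exists_conjTo [IsAffineHom G.hom] [Smooth G.hom] {T : Over S} [GrpObj T] (i : T ⟶ G)
    (hi : Red.IsMaximalTorus i) {T' : Over S'} [GrpObj T'] (i' : T' ⟶ Red.bc f G) (hi' : Red.IsMaximalTorus i') :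
    ∃ (S'' : Scheme.{u}) (c : S'' ⟶ S') (_ : Flat c) (_ : Surjective c)
        (_ : LocallyOfFinitePresentation c) (g : Over.mk (c ≫ f) ⟶ G), ConjTo i i' c g := by
  have hm : Mono i := hi.2.1
  have hm' : Mono i' := hi'.2.1
  have hA : IsAffineHom (Red.bc f G).hom := MorphismProperty.pullback_snd (P := @IsAffineHom) _ _ inferInstance
  have hS' : Smooth (Red.bc f G).hom := inferInstanceAs (Smooth (Limits.pullback.snd G.hom f))
  apply exists_conjTo_of_local
  intro s
  obtain ⟨W, hW, hsW, g, hg⟩ := EtConj.exists_etale_conj (Red.bc f G) ((Over.pullback f).map i) i'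
    (Groth.Agent.Sga3.H665.TorBcNA.isMaximalTorus_bc f hi) hi' s
  have hg' : ConjSub.ConjSub ((Over.pullback f).map i) i' (g : Over.mk W.hom ⟶ _) := hg
  obtain ⟨γ, φ, hφ⟩ := hg'.exists_iso_bc
  refine ⟨W.left, W.hom, inferInstance, inferInstance, hsW, Groth.Agent.Sga3.H813.ConjToBy.secPt W.hom f γ, ?_⟩
  exact Groth.Agent.Sga3.H813.ConjToBy.conjTo_of_conjBy i i' W.hom γ ⟨φ, hφ.symm⟩

end Conj

end Groth.Agent.Sga3.H812.Loc
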