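import Groth.Agent.Sga3.H812.Sch
import Groth.Agent.Sga3.H828.MTMain
import Groth.Agent.S0115
import Groth.Agent.Sga3B.TorClosed636

/-!
# The scheme of maximal tori of a smooth affine group
-/

set_option autoImplicit false
universe u
open CategoryTheory MonoidalCategory CartesianMonoidalCategory MonObj GrpObj AlgebraicGeometry Limits Opposite

namespace Groth.Agent.Sga3.H812.RepGlob

open Groth.Agent.Sga3B Groth.Agent.Sga3B.MT Groth.Agent.Sga3B.RedIso Groth.Agent.Sga3.H828.MTFun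
  Groth.Agent.Sga3.H828.MTMain

variable {S S' : Scheme.{u}}

/-- the functor of maximal tori is representable by a smooth affine scheme -/
def Rep (G : Over S) [GrpObj G] : Prop :=
  ∃ (𝒯 : Over S) (Tu : Over 𝒯.left) (_ : GrpObj Tu) (iu : Tu ⟶ Red.bc 𝒯.hom G),
    SGA3x.RepresentsMaxTori G 𝒯 Tu iu ∧ Smooth 𝒯.hom ∧ IsAffineHom 𝒯.hom

lemma hyp (G : Over S) [GrpObj G] [IsAffineHom G.hom] [LocallyOfFiniteType G.hom] : Hyp G where
  closed {S'} f T _ i hi := by
    have h1 : IsMonHom i := hi.1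
    have h2 : Mono i := hi.2.1
    have h3 : IsAffineHom (Red.bc f G).hom :=
      MorphismProperty.pullback_snd (P := @IsAffineHom) _ _ inferInstance
    exact TorClosed636.isClosedImmersion_of_isTorus i hi.2.2.1
  bc {S' S''} f q T _ i hi := by
    have h3 : LocallyOfFiniteType (Red.bc f G).hom :=
      MorphismProperty.pullback_snd (P := @LocallyOfFiniteType) _ _ inferInstance
    exact Groth.Agent.Sga3.H665.TorBcNA.isMaximalTorus_bc q hi

/-- transport along an isomorphism of groups -/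
theorem representsMaxTori_of_iso {G G' : Over S} [GrpObj G] [GrpObj G'] (α : Grp.mk G ≅ Grp.mk G') {𝒯 : Over S}
    {Tu : Over 𝒯.left} [GrpObj Tu] {iu : Tu ⟶ Red.bc 𝒯.hom G} (h : SGA3x.RepresentsMaxTori G 𝒯 Tu iu) :
    SGA3x.RepresentsMaxTori G' 𝒯 Tu (iu ≫ (Over.pullback 𝒯.hom).map (und α).hom) := by
  have hfst : ∀ {S₀ S₁ : Scheme.{u}} (f : S₁ ⟶ S₀) {G₁ G₂ : Over S₀} (β : G₁ ⟶ G₂),
      ((Over.pullback f).map β).left ≫ pullback.fst G₂.hom f = pullback.fst G₁.hom f ≫ β.left := by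
    intro S₀ S₁ f G₁ G₂ β
    exact pullback.lift_fst _ _ _
  have hmt : ∀ {S₁ : Scheme.{u}} (f : S₁ ⟶ S) {G₁ G₂ : Over S} [GrpObj G₁] [GrpObj G₂] (β : Grp.mk G₁ ≅ Grp.mk G₂)
      (T₁ : Over S₁) [GrpObj T₁] (i : T₁ ⟶ Red.bc f G₁), Red.IsMaximalTorus i →
      Red.IsMaximalTorus (i ≫ (Over.pullback f).map (und β).hom) := by
    intro S₁ f G₁ G₂ _ _ β T₁ _ i hi
    refine AlgBc.isMaximalTorus_of_arrow (Iso.refl _) (BcIso.bcMapIso f β) ?_ hi
    rw [BcNat.und_bcMapIso]
    exact (Category.id_comp _).symm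
  refine ⟨hmt _ α _ _ h.1, fun S' f T' _ i' hi' => ?_⟩
  have h1 := hmt f α.symm T' i' hi'
  obtain ⟨v, ⟨hv, φ, hφ1, hφ2⟩, huniq⟩ := h.2 S' f T' _ h1
  -- the two compatibility conditions are equivalent
  have key : ∀ (v : S' ⟶ 𝒯.left) (φ : T'.left ≅ (Red.bc v Tu).left),
      (φ.hom ≫ ((Over.pullback v).map (iu ≫ (Over.pullback 𝒯.hom).map (und α).hom)).left ≫
          pullback.fst (Red.bc 𝒯.hom G').hom v ≫ pullback.fst G'.hom 𝒯.hom =
          i'.left ≫ pullback.fst G'.hom f) ↔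
      (φ.hom ≫ ((Over.pullback v).map iu).left ≫
          pullback.fst (Red.bc 𝒯.hom G).hom v ≫ pullback.fst G.hom 𝒯.hom =
          (i' ≫ (Over.pullback f).map (und α.symm).hom).left ≫ pullback.fst G.hom f) := by
    intro v φ
    have e1 : ((Over.pullback v).map (iu ≫ (Over.pullback 𝒯.hom).map (und α).hom)).left ≫
          pullback.fst (Red.bc 𝒯.hom G').hom v ≫ pullback.fst G'.hom 𝒯.hom =
        (((Over.pullback v).map iu).left ≫
          pullback.fst (Red.bc 𝒯.hom G).hom v ≫ pullback.fst G.hom 𝒯.hom) ≫ (und α).hom.left := by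
      rw [Functor.map_comp, Over.comp_left, Category.assoc]
      have e2 := hfst v ((Over.pullback 𝒯.hom).map (und α).hom)
      have e3 := hfst 𝒯.hom (und α).hom
      rw [← Category.assoc ((Over.pullback v).map ((Over.pullback 𝒯.hom).map (und α).hom)).left, e2]
      simp only [Category.assoc]
      rw [e3]
    have e4 : (i' ≫ (Over.pullback f).map (und α.symm).hom).left ≫ pullback.fst G.hom f =
        (i'.left ≫ pullback.fst G'.hom f) ≫ (und α).inv.left := by
      rw [Over.comp_left, Category.assoc]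
      have e3 := hfst f (und α.symm).hom
      rw [e3, Category.assoc]
      rfl
    have e5 : (und α).hom.left ≫ (und α).inv.left = 𝟙 _ := by
      rw [← Over.comp_left, Iso.hom_inv_id]
      rfl
    have e6 : (und α).inv.left ≫ (und α).hom.left = 𝟙 _ := by
      rw [← Over.comp_left, Iso.inv_hom_id]
      rfl
    rw [e1, e4]
    constructor
    · intro h
      rw [← h]
      simp only [Category.assoc]
      rw [e5, Category.comp_id]
    · intro h
      rw [← Category.assoc φ.hom, h]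
      simp only [Category.assoc]
      rw [e6, Category.comp_id]
  refine ⟨v, ⟨hv, φ, hφ1, (key v φ).2 hφ2⟩, ?_⟩
  rintro v' ⟨hv', φ', hφ1', hφ2'⟩
  exact huniq v' ⟨hv', φ', hφ1', (key v' φ').1 hφ2'⟩

lemma Rep.of_iso {G G' : Over S} [GrpObj G] [GrpObj G'] (α : Grp.mk G ≅ Grp.mk G') (h : Rep G) : Rep G' := by
  obtain ⟨𝒯, Tu, _, iu, h1, h2, h3⟩ := h
  exact ⟨𝒯, Tu, inferInstance, _, representsMaxTori_of_iso α h1, h2, h3⟩

lemma Rep.bc {G : Over S} [GrpObj G] [IsAffineHom G.hom] [LocallyOfFiniteType G.hom] (q : S' ⟶ S) (h : Rep G) :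
    Rep (Red.bc q G) := by
  obtain ⟨𝒯, Tu, _, iu, h1, h2, h3⟩ := h
  obtain ⟨Tu', _, iu', h4⟩ := representsMaxTori_bc (q := q) (hyp G) h1
  exact ⟨Red.bc q 𝒯, Tu', inferInstance, iu', h4, MorphismProperty.pullback_snd (P := @Smooth) _ _ inferInstance,
    MorphismProperty.pullback_snd (P := @IsAffineHom) _ _ inferInstance⟩

lemma Rep.bc' {G : Over S} [GrpObj G] [IsAffineHom G.hom] [LocallyOfFiniteType G.hom] {S'' : Scheme.{u}}
    {f : S' ⟶ S} {p : S'' ⟶ S'} {g : S'' ⟶ S} (hg : p ≫ f = g) (h : Rep (Red.bc f G)) : Rep (Red.bc g G) := by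
  subst hg
  have h1 : IsAffineHom (Red.bc f G).hom :=
    MorphismProperty.pullback_snd (P := @IsAffineHom) _ _ inferInstance
  have h2 : LocallyOfFiniteType (Red.bc f G).hom :=
    MorphismProperty.pullback_snd (P := @LocallyOfFiniteType) _ _ inferInstance
  exact Rep.of_iso (BcIso.bcCompIso p f G).symm (h.bc p)

lemma isQuasiAffine_of_isAffineHom {X Y : Scheme.{u}} (f : X ⟶ Y) [IsAffineHom f] : Mor2.IsQuasiAffine f := by
  refine ⟨inferInstance, fun V hV => ?_⟩
  have h1 : IsAffine (f ⁻¹ᵁ V) := hV.preimage f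
  infer_instance

/-- **Descent along fpqc coverings.** -/
theorem Rep.of_cover {G : Over S} [GrpObj G] [IsAffineHom G.hom] [LocallyOfFiniteType G.hom] (f : S' ⟶ S) [Flat f]
    [Surjective f]
    (hc : ∀ V : S.Opens, IsAffineOpen V → ∃ W : S'.Opens, IsCompact (W : Set S') ∧
      f.base '' (W : Set S') = (V : Set S))
    (H : ∀ s' : S', ∃ (V : Scheme.{u}) (j : V ⟶ S'), IsOpenImmersion j ∧ s' ∈ Set.range j ∧
      Rep (Red.bc (j ≫ f) G)) : Rep G := by
  obtain ⟨𝒯, Tu, _, iu, h1, h2⟩ := exists_representsMaxTori_of_fpqcCover (hyp G) (@Smooth ⊓ @IsAffineHom) f hc (by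
    intro s'
    obtain ⟨V, j, hj, hs, hR⟩ := H s'
    obtain ⟨𝒯, Tu, _, iu, h1, h2, h3⟩ := Rep.bc' (p := j.isoOpensRange.inv) (g := j.opensRange.ι ≫ f) (by
      rw [← Category.assoc, Scheme.Hom.isoOpensRange_inv_comp]) hR
    exact ⟨j.opensRange, hs, 𝒯, Tu, inferInstance, iu, h1, ⟨h2, h3⟩, isQuasiAffine_of_isAffineHom _⟩)
  exact ⟨𝒯, Tu, inferInstance, iu, h1, h2.1, h2.2⟩

/-- the split case over a ring -/
theorem Rep.of_split {R : Type u} [CommRing R] {G : Over (Spec (CommRingCat.of R))} [GrpObj G] [IsAffineHom G.hom]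
    [Smooth G.hom] {r : ℕ} (i : Red.DS (Spec (CommRingCat.of R)) (Fin r → ℤ) ⟶ G) (hi : Red.IsMaximalTorus i) :
    Rep G := by
  have hiM : IsMonHom i := hi.1
  have hiMo : Mono i := hi.2.1
  have hcl := TorClosed636.isClosedImmersion_of_isTorus i hi.2.2.1
  obtain ⟨M, p, h1, h2, h3, h4⟩ := Sch.exists_quotient G i hi
  obtain ⟨Tu, _, iu, -, h5⟩ := Groth.Agent.Sga3.H813.RepCrit.exists_representsMaxTori i p h4
    (fun x => Groth.Agent.Sga3.H665.TorBcNA.isMaximalTorus_bc x hi)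
    (fun S' f T' _ i' hi' => Loc.exists_conjTo i hi i' hi')
  refine ⟨M, Tu, inferInstance, iu, h5, ?_, ?_⟩
  · have h6 : p.left ≫ M.hom = G.hom := Over.w p
    have h7 : Smooth (p.left ≫ M.hom) := by rw [h6]; infer_instance
    exact Groth.Agent.S0115.result p.left M.hom
  · infer_instance

/-- **The case of a group with a maximal torus.** -/
theorem Rep.of_maxTorus {G : Over S} [GrpObj G] [IsAffineHom G.hom] [Smooth G.hom] {T : Over S} [GrpObj T]
    (i : T ⟶ G) (hi : Red.IsMaximalTorus i) : Rep G := by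
  have H := fun s : S => TorusEtSplit.exists_etale_split T hi.2.2.1 s
  choose B c v r hv hs hr using H
  have e1 : Flat (Sigma.desc v) := IsZariskiLocalAtSource.sigmaDesc fun x => inferInstance
  have e2 : LocallyOfFinitePresentation (Sigma.desc v) :=
    IsZariskiLocalAtSource.sigmaDesc fun x => inferInstance
  have e3 : Surjective (Sigma.desc v) := Loc.surjective_desc _ hs
  refine Rep.of_cover (Sigma.desc v) (AlgBc.qc_cover_of_isOpenMap _ (Scheme.Hom.isOpenMap _)) fun s' => ?_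
  obtain ⟨s, y, hy⟩ := (sigmaOpenCover fun s => Spec (CommRingCat.of (B s))).exists_eq s'
  refine ⟨Spec (CommRingCat.of (B s)), Sigma.ι (fun s => Spec (CommRingCat.of (B s))) s, inferInstance, ⟨y, hy⟩, ?_⟩
  rw [Sigma.ι_desc]
  have h1 : IsAffineHom (Red.bc (v s) G).hom :=
    MorphismProperty.pullback_snd (P := @IsAffineHom) _ _ inferInstance
  have h2 : Smooth (Red.bc (v s) G).hom := MorphismProperty.pullback_snd (P := @Smooth) _ _ inferInstance
  obtain ⟨E⟩ := hr s
  have h3 : Red.IsMaximalTorus ((Over.pullback (v s)).map i) :=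
    Groth.Agent.Sga3.H665.TorBcNA.isMaximalTorus_bc (v s) hi
  exact Rep.of_split _ (IsomHa505.isMaximalTorus_of_iso_comp E.symm h3)

/-- **The scheme of maximal tori.** -/
theorem rep_of_fpqcLocally {G : Over S} [GrpObj G] [IsAffineHom G.hom] [Smooth G.hom]
    (hG : SGA3x.HasMaxTorusFpqcLocally G) : Rep G := by
  obtain ⟨S', f, hf1, hf2, hf3, T, _, i, hi⟩ := hG
  refine Rep.of_cover f hf3 fun s' => ⟨S', 𝟙 S', inferInstance, ⟨s', rfl⟩, ?_⟩
  have h1 : IsAffineHom (Red.bc f G).hom :=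
    MorphismProperty.pullback_snd (P := @IsAffineHom) _ _ inferInstance
  have h2 : Smooth (Red.bc f G).hom := MorphismProperty.pullback_snd (P := @Smooth) _ _ inferInstance
  exact Rep.bc' (p := 𝟙 S') rfl (Rep.of_maxTorus i hi)

end Groth.Agent.Sga3.H812.RepGlob
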