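import Groth.Agent.Sga3.H812.RepGlob

/-!
# Descent of `Rep` (representability by a smooth affine scheme) without affineness of the group

`RepGlob.Rep G` only needs `MTFun.Hyp G` (maximal tori closed and stable under base change), which holds for example
for separated groups locally of finite type.
-/

set_option autoImplicit false
universe u
open CategoryTheory MonoidalCategory CartesianMonoidalCategory MonObj GrpObj AlgebraicGeometry Limits Opposite

namespace Groth.Agent.Sga3.H812.RepGen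

open Groth.Agent.Sga3B Groth.Agent.Sga3B.MT Groth.Agent.Sga3B.RedIso Groth.Agent.Sga3.H828.MTFun
  Groth.Agent.Sga3.H828.MTMain Groth.Agent.Sga3.H812.RepGlob

variable {S S' : Scheme.{u}}

lemma bc {G : Over S} [GrpObj G] (hG : Hyp G) (q : S' ⟶ S) (h : Rep G) : Rep (Red.bc q G) := by
  obtain ⟨𝒯, Tu, _, iu, h1, h2, h3⟩ := h
  obtain ⟨Tu', _, iu', h4⟩ := representsMaxTori_bc (q := q) hG h1
  exact ⟨Red.bc q 𝒯, Tu', inferInstance, iu', h4, MorphismProperty.pullback_snd (P := @Smooth) _ _ inferInstance,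
    MorphismProperty.pullback_snd (P := @IsAffineHom) _ _ inferInstance⟩

lemma bc' {G : Over S} [GrpObj G] (hG : Hyp G) {S'' : Scheme.{u}}
    {f : S' ⟶ S} {p : S'' ⟶ S'} {g : S'' ⟶ S} (hg : p ≫ f = g) (h : Rep (Red.bc f G)) : Rep (Red.bc g G) := by
  subst hg
  exact Rep.of_iso (BcIso.bcCompIso p f G).symm (bc (Hyp.pull f hG) p h)

/-- **Descent along fpqc coverings.** -/
theorem of_cover {G : Over S} [GrpObj G] (hG : Hyp G) (f : S' ⟶ S) [Flat f] [Surjective f]
    (hc : ∀ V : S.Opens, IsAffineOpen V → ∃ W : S'.Opens, IsCompact (W : Set S') ∧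
      f.base '' (W : Set S') = (V : Set S))
    (H : ∀ s' : S', ∃ (V : Scheme.{u}) (j : V ⟶ S'), IsOpenImmersion j ∧ s' ∈ Set.range j ∧
      Rep (Red.bc (j ≫ f) G)) : Rep G := by
  obtain ⟨𝒯, Tu, _, iu, h1, h2⟩ := exists_representsMaxTori_of_fpqcCover hG (@Smooth ⊓ @IsAffineHom) f hc (by
    intro s'
    obtain ⟨V, j, hj, hs, hR⟩ := H s'
    obtain ⟨𝒯, Tu, _, iu, h1, h2, h3⟩ := bc' hG (p := j.isoOpensRange.inv) (g := j.opensRange.ι ≫ f) (by
      rw [← Category.assoc, Scheme.Hom.isoOpensRange_inv_comp]) hR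
    exact ⟨j.opensRange, hs, 𝒯, Tu, inferInstance, iu, h1, ⟨h2, h3⟩, isQuasiAffine_of_isAffineHom _⟩)
  exact ⟨𝒯, Tu, inferInstance, iu, h1, h2.1, h2.2⟩

/-- **Etale local version**: it is enough that `G` becomes good over an etale neighbourhood of every point. -/
theorem of_etale_nhds {G : Over S} [GrpObj G] (hG : Hyp G)
    (H : ∀ s : S, ∃ (V : Scheme.{u}) (v : V ⟶ S), Etale v ∧ s ∈ Set.range v ∧ Rep (Red.bc v G)) : Rep G := by
  choose B v hv hs hr using H
  have e1 : Flat (Sigma.desc v) := IsZariskiLocalAtSource.sigmaDesc fun x => inferInstance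
  have e2 : LocallyOfFinitePresentation (Sigma.desc v) :=
    IsZariskiLocalAtSource.sigmaDesc fun x => inferInstance
  have e3 : Surjective (Sigma.desc v) := Loc.surjective_desc _ hs
  refine of_cover hG (Sigma.desc v) (AlgBc.qc_cover_of_isOpenMap _ (Scheme.Hom.isOpenMap _)) fun s' => ?_
  obtain ⟨s, y, hy⟩ := (sigmaOpenCover B).exists_eq s'
  refine ⟨B s, Sigma.ι B s, inferInstance, ⟨y, hy⟩, ?_⟩
  rw [Sigma.ι_desc]
  exact hr s

/-- From a quotient `q : G ⟶ M` with `M` smooth affine over `S`. -/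
theorem of_quotient {G : Over S} [GrpObj G] {T : Over S} [GrpObj T] (i : T ⟶ G) [IsClosedImmersion i.left]
    (hi : Red.IsMaximalTorus i) {M : Over S} (q : G ⟶ M) [Smooth M.hom] [IsAffineHom M.hom]
    [Flat q.left] [LocallyOfFinitePresentation q.left] [Surjective q.left]
    (hEQ : Groth.Agent.Sga3.H813.RepCrit.EQ i q)
    (hbc : ∀ {X : Scheme.{u}} (x : X ⟶ S), Red.IsMaximalTorus ((Over.pullback x).map i))
    (hconj : ∀ (S' : Scheme.{u}) (f : S' ⟶ S) (T' : Over S') [GrpObj T'] (i' : T' ⟶ Red.bc f G),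
      Red.IsMaximalTorus i' → ∃ (S'' : Scheme.{u}) (c : S'' ⟶ S') (_ : Flat c) (_ : Surjective c)
        (_ : LocallyOfFinitePresentation c) (g : Over.mk (c ≫ f) ⟶ G), Groth.Agent.Sga3.H813.RepCrit.ConjTo i i' c g) :
    Rep G := by
  have hiM : IsMonHom i := hi.1
  obtain ⟨Tu, _, iu, -, h5⟩ := Groth.Agent.Sga3.H813.RepCrit.exists_representsMaxTori i q hEQ hbc hconj
  exact ⟨M, Tu, inferInstance, iu, h5, inferInstance, inferInstance⟩

end Groth.Agent.Sga3.H812.RepGen
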