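import Groth.Agent.Sga3.H812.Eqv
import Groth.Agent.Sga3B.PtProp

/-!
# Homomorphisms between diagonalisable subgroups are locally given by homomorphisms of character groups

`F₁ = F₂ ∘ χ` with `F₁ : D(N') → G`, `F₂ : D(N) → G` homomorphisms, `F₂` a monomorphism. Then locally `χ` is dual to a
homomorphism `N → N'`. If moreover `F₂` factors through `F₁`, it is an isomorphism.
-/

set_option autoImplicit false

open TensorProduct Coalgebra Bialgebra WithConv
open Groth.Agent.Sga3B.HaarDef Groth.Agent.Sga3B.TorusWt Groth.Agent.Sga3B.TorusLie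
open Groth.Agent.Sga3B.TorusUniv Groth.Agent.Sga3.H812.Res Groth.Agent.Sga3.H812.Supp
open Groth.Agent.Sga3.H812.Univ Groth.Agent.Sga3.H812.Eqv

namespace Groth.Agent.Sga3.H812.Rig

noncomputable section

universe u

variable {R : Type u} [CommRing R] {N N' : Type} [CommGroup N] [CommGroup N']
variable {C : Type u} [CommRing C] [HopfAlgebra R C]
variable {X : Type u} [CommRing X] [Algebra R X]

lemma rg_eq_pushG_pt (φ : N →* N') (F : WithConv (C →ₐ[R] MonoidAlgebra R N ⊗[R] X)) :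
    rg φ F = pushG (pt (ι R (MonoidAlgebra R N') X) ((taut R N' X).comp φ)) F := by
  have h : rs R φ X = pt (ι R (MonoidAlgebra R N') X) ((taut R N' X).comp φ) := by
    apply algHom_ext_single
    intro n x
    rw [rs_single, pt_single, MonoidHom.comp_apply, taut_apply, ι_apply, Algebra.TensorProduct.tmul_mul_tmul,
      mul_one, one_mul, one_smul]
  rw [rg, h]

section Lift

variable {F₁ : WithConv (C →ₐ[R] MonoidAlgebra R N' ⊗[R] X)} {F₂ : WithConv (C →ₐ[R] MonoidAlgebra R N ⊗[R] X)}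
  {χ : N →* MonoidAlgebra R N' ⊗[R] X}

omit [CommGroup N'] in
lemma groupLike_abs {D A₂ : Type u} [CommRing D] [Algebra R D] [CommRing A₂] [Algebra R A₂] {F₁ : WithConv (C →ₐ[R] D)}
    {j : X →ₐ[R] D} {χ : N →* D} (hF₂ : IsHom F₂) (hm : AMono F₂) (t i d : D →ₐ[R] A₂)
    (h1 : t.comp j = i.comp j) (h2 : d.comp j = i.comp j) (hF₁ : pushG t F₁ * pushG i F₁ = pushG d F₁)
    (h : F₁ = pushG (pt j χ) F₂) (n : N) : t (χ n) * i (χ n) = d (χ n) := by
  have e1 : pushG t F₁ = pushG (pt (i.comp j) ((t : D →* A₂).comp χ)) F₂ := by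
    rw [h, pushG_comp, comp_pt, h1]
  have e2 : pushG i F₁ = pushG (pt (i.comp j) ((i : D →* A₂).comp χ)) F₂ := by
    rw [h, pushG_comp, comp_pt]
  have e3 : pushG d F₁ = pushG (pt (i.comp j) ((d : D →* A₂).comp χ)) F₂ := by
    rw [h, pushG_comp, comp_pt, h2]
  rw [e1, e2, e3] at hF₁
  have h2 := (Groth.Agent.Sga3B.PtProp.pushG_pt_mul hF₂ (i.comp j) ((t : D →* A₂).comp χ)
    ((i : D →* A₂).comp χ)).trans hF₁
  exact DFunLike.congr_fun (hm A₂ (i.comp j) _ _ h2) n

lemma groupLike (hF₁ : IsHom F₁) (hF₂ : IsHom F₂) (hm : AMono F₂)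
    (h : F₁ = pushG (pt (ι R (MonoidAlgebra R N') X) χ) F₂) (n : N) :
    T (MonoidAlgebra R N') (ι R (MonoidAlgebra R N') X) (χ n) *
      ι R (MonoidAlgebra R N') (MonoidAlgebra R N' ⊗[R] X) (χ n) = δ R (MonoidAlgebra R N') X (χ n) :=
  groupLike_abs hF₂ hm (T (MonoidAlgebra R N') (ι R (MonoidAlgebra R N') X))
    (ι R (MonoidAlgebra R N') (MonoidAlgebra R N' ⊗[R] X)) (δ R (MonoidAlgebra R N') X) (T_comp_ι _) δ_comp_ι hF₁ h n

lemma ev_eq_one (hF₁ : IsHom F₁) (hF₂ : IsHom F₂) (hm : AMono F₂)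
    (h : F₁ = pushG (pt (ι R (MonoidAlgebra R N') X) χ) F₂) (n : N) : ev R N' X (χ n) = 1 := by
  have h1 := pushG_ev hF₁
  rw [h, pushG_comp, comp_pt, ev_comp_ι] at h1
  have h2 : pushG (pt (AlgHom.id R X) (1 : N →* X)) F₂ = 1 := by
    apply lin_injective
    rw [lin_pushG_pt, map_one]
    exact Phi_one hF₂ _
  exact DFunLike.congr_fun (hm X (AlgHom.id R X) _ _ (h1.trans h2.symm)) n

lemma coef_mul_coef (hF₁ : IsHom F₁) (hF₂ : IsHom F₂) (hm : AMono F₂)
    (h : F₁ = pushG (pt (ι R (MonoidAlgebra R N') X) χ) F₂) (n : N) (a b : N') [Decidable (a = b)] :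
    coef R a X (χ n) * coef R b X (χ n) = if a = b then coef R a X (χ n) else 0 := by
  rw [← coef_coef_mul, groupLike hF₁ hF₂ hm h, coef_coef_δ]

/-- **Local constancy.** -/
theorem exists_hom [Group.FG N] (hF₁ : IsHom F₁) (hF₂ : IsHom F₂) (hm : AMono F₂)
    (h : F₁ = pushG (pt (ι R (MonoidAlgebra R N') X) χ) F₂) (p : PrimeSpectrum X) :
    ∃ a : X, a ∉ p.asIdeal ∧ ∃ φ : N →* N', ∀ (A : Type u) [CommRing A] [Algebra R A] (l : X →ₐ[R] A),
      IsUnit (l a) → pushG (T (MonoidAlgebra R N') l) F₁ = rg φ (pushG (T (MonoidAlgebra R N) l) F₂) := by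
  classical
  obtain ⟨S, hS⟩ := Group.fg_def.1 (inferInstance : Group.FG N)
  have key : ∀ n : N, ∃ m : N', coef R m X (χ n) ∉ p.asIdeal := by
    intro n
    by_contra hcon
    push Not at hcon
    obtain ⟨s, hs, -⟩ := exists_finset_coef (χ n)
    apply p.isPrime.ne_top
    rw [Ideal.eq_top_iff_one, ← ev_eq_one hF₁ hF₂ hm h n, ev_eq_sum (χ n) hs]
    exact Ideal.sum_mem _ fun m _ => hcon m
  choose m hmm using key
  refine ⟨∏ n ∈ S, coef R (m n) X (χ n), fun h0 => ?_, ?_⟩
  · obtain ⟨n, -, hn⟩ := (p.isPrime.prod_mem_iff).1 h0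
    exact hmm n hn
  -- the universal case
  have hloc : ∀ (A : Type u) [CommRing A] [Algebra R A] (l : X →ₐ[R] A),
      IsUnit (l (∏ n ∈ S, coef R (m n) X (χ n))) → ∀ n ∈ S,
      T (MonoidAlgebra R N') l (χ n) = taut R N' A (m n) := by
    intro A _ _ l hl n hn
    have hu : IsUnit (l (coef R (m n) X (χ n))) := by
      rw [map_prod] at hl
      exact isUnit_of_dvd_unit (Finset.dvd_prod_of_mem (fun n => l (coef R (m n) X (χ n))) hn) hl
    have h1 : l (coef R (m n) X (χ n)) = 1 := by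
      have := coef_mul_coef hF₁ hF₂ hm h n (m n) (m n)
      rw [if_pos rfl] at this
      have h2 := congrArg l this
      rw [map_mul] at h2
      exact hu.mul_left_cancel (h2.trans (mul_one _).symm)
    apply coef_ext
    intro k
    rw [coef_T, taut_apply, coef_single, one_smul]
    split_ifs with hk
    · rw [← hk, h1]
    · have := coef_mul_coef hF₁ hF₂ hm h n (m n) k
      rw [if_neg hk] at this
      have h2 := congrArg l this
      rw [map_mul, h1, one_mul, map_zero] at h2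
      exact h2
  -- the homomorphism
  let a := ∏ n ∈ S, coef R (m n) X (χ n)
  have ha : a ∉ p.asIdeal := fun h0 => by
    obtain ⟨n, -, hn⟩ := (p.isPrime.prod_mem_iff).1 h0
    exact hmm n hn
  let l₀ : X →ₐ[R] Localization.Away a := IsScalarTower.toAlgHom R X (Localization.Away a)
  have hu : IsUnit (l₀ a) := IsLocalization.Away.algebraMap_isUnit a
  have hnt : Nontrivial (Localization.Away a) := by
    refine ⟨⟨1, 0, fun h01 => ?_⟩⟩
    have h1 : algebraMap X (Localization.Away a) 1 = 0 := by rw [map_one, h01]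
    rw [IsLocalization.map_eq_zero_iff (Submonoid.powers a)] at h1
    obtain ⟨⟨_, k, rfl⟩, hk⟩ := h1
    rw [mul_one] at hk
    exact ha (p.isPrime.mem_of_pow_mem k (by
      have : a ^ k = 0 := hk
      rw [this]
      exact Ideal.zero_mem _))
  have hinj : Function.Injective (taut R N' (Localization.Away a)) := by
    intro x y hxy
    rw [taut_apply, taut_apply] at hxy
    have h1 := congrArg (coef R x (Localization.Away a)) hxy
    rw [coef_single, coef_single, if_pos rfl] at h1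
    by_contra hne
    rw [if_neg (fun h => hne h.symm), one_smul] at h1
    exact one_ne_zero h1
  let χ' : N →* MonoidAlgebra R N' ⊗[R] Localization.Away a :=
    ((T (MonoidAlgebra R N') l₀ : _ →ₐ[R] _) : MonoidAlgebra R N' ⊗[R] X →* _).comp χ
  have hrange : ∀ n, ∃ k, taut R N' (Localization.Away a) k = χ' n := by
    intro n
    have hn : n ∈ Subgroup.closure (S : Set N) := by rw [hS]; trivial
    induction hn using Subgroup.closure_induction with
    | mem x hx => exact ⟨m x, (hloc _ l₀ hu x hx).symm⟩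
    | one => exact ⟨1, by rw [map_one, map_one]⟩
    | mul x y _ _ hx hy =>
      obtain ⟨k, hk⟩ := hx
      obtain ⟨k', hk'⟩ := hy
      exact ⟨k * k', by rw [map_mul, map_mul, hk, hk']⟩
    | inv x _ hx =>
      obtain ⟨k, hk⟩ := hx
      refine ⟨k⁻¹, ?_⟩
      have h1 : taut R N' (Localization.Away a) k⁻¹ * taut R N' (Localization.Away a) k = 1 := by
        rw [← map_mul, inv_mul_cancel, map_one]
      have h2 : χ' x⁻¹ * χ' x = 1 := by
        rw [← map_mul, inv_mul_cancel, map_one]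
      rw [hk] at h1
      have h3 : χ' x * χ' x⁻¹ = 1 := by rw [mul_comm]; exact h2
      calc taut R N' (Localization.Away a) k⁻¹ = taut R N' (Localization.Away a) k⁻¹ * (χ' x * χ' x⁻¹) := by
            rw [h3, mul_one]
        _ = χ' x⁻¹ := by rw [← mul_assoc, h1, one_mul]
  choose ψ hψ using hrange
  let φ : N →* N' := MonoidHom.mk' ψ fun x y => by
    apply hinj
    rw [hψ, map_mul, map_mul, hψ, hψ]
  refine ⟨φ, fun A _ _ l hl => ?_⟩
  have hl' : ∀ y : Submonoid.powers a, IsUnit (l y) := by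
    rintro ⟨_, k, rfl⟩
    show IsUnit (l (a ^ k))
    rw [map_pow]
    exact IsUnit.pow k hl
  let l' : Localization.Away a →ₐ[R] A := IsLocalization.liftAlgHom (M := Submonoid.powers a) (f := l) hl'
  have hll : l'.comp l₀ = l := by
    apply AlgHom.ext
    intro x
    exact IsLocalization.lift_eq _ x
  have hχφ : ((T (MonoidAlgebra R N') l : _ →ₐ[R] _) : MonoidAlgebra R N' ⊗[R] X →* _).comp χ =
      (taut R N' A).comp φ := ?_
  · rw [rg_eq_pushG_pt, h, pushG_comp, comp_pt, pushG_comp, Locus.pt_comp_T, T_comp_ι, hχφ]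
  apply MonoidHom.ext
  intro n
  show T (MonoidAlgebra R N') l (χ n) = taut R N' A (φ n)
  have h1 : T (MonoidAlgebra R N') l' (χ' n) = T (MonoidAlgebra R N') l' (taut R N' _ (ψ n)) := by rw [hψ]
  have h2 : T (MonoidAlgebra R N') l' (χ' n) = T (MonoidAlgebra R N') l (χ n) := by
    show T (MonoidAlgebra R N') l' (T (MonoidAlgebra R N') l₀ (χ n)) = _
    rw [← AlgHom.comp_apply, T_comp, hll]
  rw [← h2, h1, taut_apply, T_tmul, map_one]
  rfl

end Lift

lemma taut_injective [Nontrivial X] : Function.Injective (taut R N X) := by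
  classical
  intro x y hxy
  rw [taut_apply, taut_apply] at hxy
  have h1 := congrArg (coef R x X) hxy
  rw [coef_single, coef_single, if_pos rfl] at h1
  by_contra hne
  rw [if_neg (fun h => hne h.symm), one_smul] at h1
  exact one_ne_zero h1

/-- a homomorphism of character groups is determined by its effect on a monomorphism -/
lemma eq_of_rg_eq_hom [Nontrivial X] {F : WithConv (C →ₐ[R] MonoidAlgebra R N ⊗[R] X)} (hm : AMono F)
    {φ φ' : N →* N'} (h : rg φ F = rg φ' F) : φ = φ' := by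
  rw [rg_eq_pushG_pt, rg_eq_pushG_pt] at h
  have h1 := hm _ (ι R (MonoidAlgebra R N') X) _ _ h
  apply MonoidHom.ext
  intro n
  exact taut_injective (DFunLike.congr_fun h1 n)

lemma nontrivial_away {p : PrimeSpectrum X} {a : X} (ha : a ∉ p.asIdeal) : Nontrivial (Localization.Away a) := by
  refine ⟨⟨1, 0, fun h01 => ?_⟩⟩
  have h1 : algebraMap X (Localization.Away a) 1 = 0 := by rw [map_one, h01]
  rw [IsLocalization.map_eq_zero_iff (Submonoid.powers a)] at h1
  obtain ⟨⟨_, k, rfl⟩, hk⟩ := h1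
  rw [mul_one] at hk
  exact ha (p.isPrime.mem_of_pow_mem k (by
    have : a ^ k = 0 := hk
    rw [this]
    exact Ideal.zero_mem _))

/-- Two conjugates of `F₀` which factor through each other agree up to automorphisms, locally. -/
theorem locEq_of_factor [Group.FG N] {F₀ : WithConv (C →ₐ[R] MonoidAlgebra R N ⊗[R] R)} (hF₀ : IsHom F₀)
    (hm : AMono F₀) (g h : WithConv (C →ₐ[R] X)) (χ χ' : N →* MonoidAlgebra R N ⊗[R] X)
    (h1 : ob F₀ g = pushG (pt (ι R (MonoidAlgebra R N) X) χ) (ob F₀ h))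
    (h2 : ob F₀ h = pushG (pt (ι R (MonoidAlgebra R N) X) χ') (ob F₀ g)) : LocEq F₀ g h := by
  intro p
  have hmo : ∀ {A : Type u} [CommRing A] [Algebra R A] (g : WithConv (C →ₐ[R] A)), AMono (ob F₀ g) :=
    fun g => Locus.AMono.cj (Locus.AMono.map hm _) g
  obtain ⟨a, ha, φ, hφ⟩ := exists_hom (isHom_ob hF₀ g) (isHom_ob hF₀ h) (hmo h) h1 p
  obtain ⟨b, hb, ψ, hψ⟩ := exists_hom (isHom_ob hF₀ h) (isHom_ob hF₀ g) (hmo g) h2 p
  have hab : a * b ∉ p.asIdeal := fun h0 => (p.isPrime.mem_or_mem h0).elim ha hb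
  let l₀ : X →ₐ[R] Localization.Away (a * b) := IsScalarTower.toAlgHom R X (Localization.Away (a * b))
  have hu : IsUnit (l₀ (a * b)) := IsLocalization.Away.algebraMap_isUnit (a * b)
  have hnt : Nontrivial (Localization.Away (a * b)) := nontrivial_away hab
  have hua : IsUnit (l₀ a) := isUnit_of_dvd_unit ((map_mul l₀ a b).symm ▸ Dvd.intro _ rfl) hu
  have hub : IsUnit (l₀ b) := isUnit_of_dvd_unit ((map_mul l₀ a b).symm ▸ Dvd.intro_left _ rfl) hu
  have e1 := hφ _ l₀ hua
  have e2 := hψ _ l₀ hub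
  rw [T_ob, T_ob] at e1 e2
  have e3 : φ.comp ψ = MonoidHom.id N := by
    apply eq_of_rg_eq_hom (hmo (pushG l₀ g))
    rw [rg_id, ← rg_rg, ← e2, ← e1]
  have e4 : ψ.comp φ = MonoidHom.id N := by
    apply eq_of_rg_eq_hom (hmo (pushG l₀ h))
    rw [rg_id, ← rg_rg, ← e1, ← e2]
  refine ⟨a * b, hab, MonoidHom.toMulEquiv φ ψ e4 e3, fun A _ _ l hl => ?_⟩
  have hla : IsUnit (l a) := isUnit_of_dvd_unit ((map_mul l a b).symm ▸ Dvd.intro _ rfl) hl
  have e5 := hφ A l hla
  rw [T_ob, T_ob] at e5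
  exact e5

end

end Groth.Agent.Sga3.H812.Rig
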