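import Groth.Agent.Sga3.H812.Fld
import Groth.Agent.Sga3.H812.Loc
import Groth.Agent.Sga3.H812.Rig

/-!
# The dictionary between conjugates of a split torus and the algebra form
-/

set_option autoImplicit false

open CategoryTheory MonoidalCategory CartesianMonoidalCategory AlgebraicGeometry Limits Opposite
open TensorProduct WithConv
open scoped MonObj
open Groth.Agent.Sga3B.HaarDef Groth.Agent.Sga3B.AffTest Groth.Agent.Sga3B.PtData Groth.Agent.Sga3B.TorusLie
open Groth.Agent.Sga3B.TorusWt Groth.Agent.Sga3B.PtMor Groth.Agent.Sga3B.PtProp Groth.Agent.Sga3B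
open Groth.Agent.Sga3.H812.Res Groth.Agent.Sga3.H812.Univ Groth.Agent.Sga3.H812.Eqv
open Groth.Agent.Sga3.H812.SelfStr
open Groth.Agent.Redsub.H649.ConjPts Groth.Agent.Sga3.H813.RepCrit

namespace Groth.Agent.Sga3.H812.Dict

noncomputable section

universe u

variable {R C : Type u} [CommRing R] [CommRing C] [HopfAlgebra R C] {M : Type} [AddCommGroup M]
variable {G : Over (Spec (CommRingCat.of R))} [GrpObj G] (e : sp R C ≅ G) [IsMonHom e.hom]
variable {i : Red.DS (Spec (CommRingCat.of R)) M ⟶ G}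
  {F₀ : WithConv (C →ₐ[R] MonoidAlgebra R (Multiplicative M) ⊗[R] R)}

lemma pushG_pt_ob {N : Type} [CommGroup N] (F₀ : WithConv (C →ₐ[R] MonoidAlgebra R N ⊗[R] R)) {A B : Type u} [CommRing A] [Algebra R A] [CommRing B]
    [Algebra R B] (f : A →ₐ[R] B) (g : WithConv (C →ₐ[R] A)) (χ : N →* B) :
    pushG (pt f χ) (ob F₀ g) = pushG f g * pushG (pt (Algebra.ofId R B) χ) F₀ * (pushG f g)⁻¹ := by
  have h1 : f.comp (Algebra.ofId R A) = Algebra.ofId R B := Subsingleton.elim _ _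
  rw [ob, cj, map_mul, map_mul, map_inv, pushG_comp, Locus.pt_comp_ι, bc0, pushG_comp, Locus.pt_comp_T, h1]

lemma chPt_comp (hF : Corr (dsStr R R M) (selfStr e) i F₀) {A : Type u} [CommRing A] [Algebra R A]
    (χ : Multiplicative M →* A) :
    chPt (dsStr R R M) A χ ≫ i = gp e A (pushG (pt (Algebra.ofId R A) χ) F₀) := by
  rw [hF]
  rfl

/-- points of the conjugates -/
theorem inC_iff (hF : Corr (dsStr R R M) (selfStr e) i F₀) {A : Type u} [CommRing A] [Algebra R A]
    (g γ : WithConv (C →ₐ[R] A)) :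
    InC i (gp e A g) (gp e A γ) ↔
      ∃ χ : Multiplicative M →* A, γ = pushG (pt (AlgHom.id R A) χ) (ob F₀ g) := by
  have h0 : pushG (AlgHom.id R A) g = g := rfl
  constructor
  · rintro ⟨x, hx⟩
    obtain ⟨χ, rfl⟩ := (chPt (dsStr R R M) A).surjective x
    refine ⟨χ, ?_⟩
    rw [chPt_comp e hF, ← map_inv, ← map_mul, ← map_mul] at hx
    have h1 := (gp e A).injective hx
    rw [pushG_pt_ob, h0, h1]
    group
  · rintro ⟨χ, rfl⟩
    refine ⟨chPt (dsStr R R M) A χ, ?_⟩
    rw [chPt_comp e hF, ← map_inv, ← map_mul, ← map_mul, pushG_pt_ob, h0]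
    congr 1
    group

lemma comp_gp {A B : Type u} [CommRing A] [Algebra R A] [CommRing B] [Algebra R B] (f : A →ₐ[R] B)
    (g : WithConv (C →ₐ[R] A)) : spMap f ≫ gp e A g = gp e B (pushG f g) := by
  rw [gp_apply, gp_apply, ← Category.assoc, ← spMap_comp]
  rfl

/-- same conjugates implies local equality up to automorphisms -/
theorem locEq_of_inC {r : ℕ} {i : Red.DS (Spec (CommRingCat.of R)) (Fin r → ℤ) ⟶ G}
    {F₀ : WithConv (C →ₐ[R] MonoidAlgebra R (Multiplicative (Fin r → ℤ)) ⊗[R] R)}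
    (hF : Corr (dsStr R R (Fin r → ℤ)) (selfStr e) i F₀) (hF₀ : IsHom F₀) (hm : AMono F₀)
    {A : Type u} [CommRing A] [Algebra R A]
    (g h : WithConv (C →ₐ[R] A))
    (H : ∀ (Y : Over (Spec (CommRingCat.of R))) (y : Y ⟶ sp R A) (γ : Y ⟶ G),
      InC i (y ≫ gp e A g) γ ↔ InC i (y ≫ gp e A h) γ) : LocEq F₀ g h := by
  have key : ∀ g₁ h₁ : WithConv (C →ₐ[R] A),
      (∀ (Y : Over (Spec (CommRingCat.of R))) (y : Y ⟶ sp R A) (γ : Y ⟶ G),
        InC i (y ≫ gp e A g₁) γ → InC i (y ≫ gp e A h₁) γ) →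
      ∃ χ : Multiplicative (Fin r → ℤ) →* MonoidAlgebra R (Multiplicative (Fin r → ℤ)) ⊗[R] A,
        ob F₀ g₁ = pushG (pt (HaarDef.ι R (MonoidAlgebra R (Multiplicative (Fin r → ℤ))) A) χ) (ob F₀ h₁) := by
    intro g₁ h₁ H₁
    have e1 : ∀ (h₂ : WithConv (C →ₐ[R] A))
        (χ : Multiplicative (Fin r → ℤ) →* MonoidAlgebra R (Multiplicative (Fin r → ℤ)) ⊗[R] A),
        pushG (pt (AlgHom.id R _) χ) (ob F₀ (pushG (HaarDef.ι R (MonoidAlgebra R (Multiplicative (Fin r → ℤ))) A) h₂)) =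
          pushG (pt (HaarDef.ι R (MonoidAlgebra R (Multiplicative (Fin r → ℤ))) A) χ) (ob F₀ h₂) := by
      intro h₂ χ
      rw [pushG_pt_ob, pushG_pt_ob]
      rfl
    have h1 := H₁ (sp R (MonoidAlgebra R (Multiplicative (Fin r → ℤ)) ⊗[R] A))
      (spMap (HaarDef.ι R (MonoidAlgebra R (Multiplicative (Fin r → ℤ))) A)) (gp e _ (ob F₀ g₁))
    rw [comp_gp, comp_gp, inC_iff e hF, inC_iff e hF] at h1
    obtain ⟨χ, hχ⟩ := h1 ⟨taut R (Multiplicative (Fin r → ℤ)) A, by rw [e1, pushG_pt_taut]⟩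
    exact ⟨χ, by rw [hχ, e1]⟩
  obtain ⟨χ, hχ⟩ := key g h fun Y y γ => (H Y y γ).1
  obtain ⟨χ', hχ'⟩ := key h g fun Y y γ => (H Y y γ).2
  have hfg : Group.FG (Multiplicative (Fin r → ℤ)) := inferInstance
  exact Rig.locEq_of_factor hF₀ hm g h χ χ' hχ hχ'

/-- local equality up to automorphisms implies same conjugates -/
theorem inC_of_locEq [Mono i] (hF : Corr (dsStr R R M) (selfStr e) i F₀)
    {A : Type u} [CommRing A] [Algebra R A] (g h γ : WithConv (C →ₐ[R] A)) (H : LocEq F₀ g h)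
    (hγ : InC i (gp e A g) (gp e A γ)) : InC i (gp e A h) (gp e A γ) := by
  refine Loc.InC.of_local i fun x => ?_
  obtain ⟨a, ha, φ, hφ⟩ := H x
  refine ⟨sp R (Localization.Away a), spMap (IsScalarTower.toAlgHom R A (Localization.Away a)), ?_, ?_, ?_⟩
  · change IsOpenImmersion (Spec.map (CommRingCat.ofHom (algebraMap A (Localization.Away a))))
    infer_instance
  · have h1 : Set.range (PrimeSpectrum.comap (algebraMap A (Localization.Away a))) = PrimeSpectrum.basicOpen a :=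
      PrimeSpectrum.localization_away_comap_range _ a
    have h2 : (x : PrimeSpectrum A) ∈ Set.range (PrimeSpectrum.comap (algebraMap A (Localization.Away a))) := by
      rw [h1]
      exact ha
    exact h2
  · have hγ' := InC.comp i hγ (spMap (IsScalarTower.toAlgHom R A (Localization.Away a)))
    rw [comp_gp, comp_gp, inC_iff e hF] at hγ' ⊢
    obtain ⟨χ, hχ⟩ := hγ'
    have h3 := hφ _ (IsScalarTower.toAlgHom R A (Localization.Away a))
      (IsLocalization.Away.algebraMap_isUnit a)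
    rw [h3, Locus.pushG_pt_rg] at hχ
    exact ⟨_, hχ⟩

end

end Groth.Agent.Sga3.H812.Dict
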