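import Mathlib.GroupTheory.Finiteness
import Mathlib.GroupTheory.FiniteAbelian.Basic
import Mathlib.GroupTheory.QuotientGroup.Basic
import Mathlib.Algebra.Group.Subgroup.Finite

/-!
# Finite quotients of `ℤ^r` and automorphisms moving a generating set in a finite set
-/

set_option autoImplicit false

namespace Groth.Agent.Sga3.H812.Level

/-- the subgroup of `n`-th powers -/
def pw (N : Type) [CommGroup N] (n : ℕ) : Subgroup N := (powMonoidHom n : N →* N).range

lemma mem_pw_iff {N : Type} [CommGroup N] {n : ℕ} {x : N} : x ∈ pw N n ↔ ∃ y, y ^ n = x := Iff.rfl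

lemma finite_quotient (N : Type) [CommGroup N] [Group.FG N] {n : ℕ} (hn : n ≠ 0) : Finite (N ⧸ pw N n) := by
  have htor : Monoid.IsTorsion (N ⧸ pw N n) := by
    intro x
    induction x using QuotientGroup.induction_on with
    | H x =>
      rw [isOfFinOrder_iff_pow_eq_one]
      refine ⟨n, Nat.pos_of_ne_zero hn, ?_⟩
      rw [← QuotientGroup.mk_pow, QuotientGroup.eq_one_iff]
      exact ⟨x, rfl⟩
  have : Group.FG (N ⧸ pw N n) := QuotientGroup.fg (pw N n)
  exact CommGroup.finite_of_fg_torsion _ htor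

lemma exists_equiv {N : Type} [CommGroup N] (n : ℕ) (φ : N ≃* N) : ∃ φ' : (N ⧸ pw N n) ≃* (N ⧸ pw N n),
    φ'.toMonoidHom.comp (QuotientGroup.mk' (pw N n)) = (QuotientGroup.mk' (pw N n)).comp φ.toMonoidHom := by
  have h : (pw N n).map φ.toMonoidHom = pw N n := by
    ext x
    constructor
    · rintro ⟨_, ⟨y, rfl⟩, rfl⟩
      exact ⟨φ y, (map_pow φ y n).symm⟩
    · rintro ⟨y, rfl⟩
      refine ⟨(φ.symm y) ^ n, ⟨φ.symm y, rfl⟩, ?_⟩
      show φ ((φ.symm y) ^ n) = y ^ n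
      rw [map_pow, φ.apply_symm_apply]
  exact ⟨QuotientGroup.congr (pw N n) (pw N n) φ h, MonoidHom.ext fun x => rfl⟩

lemma eq_one_of_mem_pw {r : ℕ} {n : ℕ} {x : Multiplicative (Fin r → ℤ)} (hx : x ∈ pw _ n)
    (h : ∀ i, |x.toAdd i| < n) : x = 1 := by
  obtain ⟨y, rfl⟩ := hx
  have h1 : ∀ i, ((y ^ n).toAdd i) = n * y.toAdd i := by
    intro i
    rw [toAdd_pow, Pi.smul_apply, nsmul_eq_mul]
  apply Multiplicative.toAdd.injective
  funext i
  show ((y ^ n).toAdd i) = 0
  have h2 := h i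
  rw [show (powMonoidHom n) y = y ^ n from rfl, h1 i, abs_mul, Nat.abs_cast] at h2
  rw [h1 i]
  have h3 : |y.toAdd i| < 1 := by
    by_contra h4
    push Not at h4
    have : (n : ℤ) * 1 ≤ n * |y.toAdd i| := mul_le_mul_of_nonneg_left h4 (Int.natCast_nonneg n)
    omega
  have h4 : y.toAdd i = 0 := Int.abs_lt_one_iff.1 h3
  rw [h4, mul_zero]

lemma exists_level {r : ℕ} (W : Finset (Multiplicative (Fin r → ℤ))) :
    ∃ n : ℕ, n ≠ 0 ∧ Set.InjOn (QuotientGroup.mk' (pw (Multiplicative (Fin r → ℤ)) n)) W := by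
  classical
  let b : ℕ := ((W ×ˢ W) ×ˢ (Finset.univ : Finset (Fin r))).sup
    fun p => (((p.1.1⁻¹ * p.1.2).toAdd p.2) : ℤ).natAbs
  refine ⟨b + 1, Nat.succ_ne_zero b, fun x hx y hy h => ?_⟩
  have h1 : x⁻¹ * y ∈ pw (Multiplicative (Fin r → ℤ)) (b + 1) := QuotientGroup.eq.1 h
  have h2 : x⁻¹ * y = 1 := by
    refine eq_one_of_mem_pw h1 fun i => ?_
    have h3 : ((((x⁻¹ * y).toAdd i) : ℤ).natAbs) ≤ b :=
      Finset.le_sup (f := fun p : (Multiplicative (Fin r → ℤ) × Multiplicative (Fin r → ℤ)) × Fin r =>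
        (((p.1.1⁻¹ * p.1.2).toAdd p.2) : ℤ).natAbs) (b := ((x, y), i))
        (Finset.mem_product.2 ⟨Finset.mem_product.2 ⟨hx, hy⟩, Finset.mem_univ i⟩)
    rw [Int.abs_eq_natAbs]
    exact_mod_cast Nat.lt_succ_of_le h3
  exact (inv_mul_eq_one.1 h2)

/-- automorphisms moving a generating subset of `W` into `W` -/
def Aw {N : Type} [CommGroup N] (W : Finset N) : Set (N ≃* N) :=
  {φ | ∃ S : Set N, S ⊆ W ∧ Subgroup.closure S = ⊤ ∧ ∀ s ∈ S, φ s ∈ W}

lemma finite_Aw {N : Type} [CommGroup N] (W : Finset N) : (Aw W).Finite := by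
  classical
  let f : (N ≃* N) → (W → Option W) := fun φ w => if h : φ w ∈ W then some ⟨φ w, h⟩ else none
  have hf : Set.InjOn f (Aw W) := by
    rintro φ ⟨S, h1, h2, h3⟩ φ' _ h
    have h4 : φ.toMonoidHom = φ'.toMonoidHom := by
      apply MonoidHom.eq_of_eqOn_dense h2
      intro s hs
      have h5 := congrFun h ⟨s, h1 hs⟩
      simp only [f] at h5
      rw [dif_pos (h3 s hs)] at h5
      by_cases h6 : φ' s ∈ W
      · rw [dif_pos h6] at h5
        exact congrArg Subtype.val (Option.some_injective _ h5)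
      · rw [dif_neg h6] at h5
        exact absurd h5 (Option.some_ne_none _)
    ext x
    exact DFunLike.congr_fun h4 x
  exact Set.Finite.of_finite_image (Set.toFinite _) hf

end Groth.Agent.Sga3.H812.Level
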