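import Groth.Agent.Sga3.H812.Quo
import Groth.Agent.Sga3.H812.Level

/-!
# The scheme of conjugates of a split maximal torus, algebra form

`exists_tor`: `G = Spec C` smooth over `R`, `F₀ : D(N) → G` a monomorphism, `N = ℤ^r`, such that over algebraically
closed fields every monomorphism `D(N) → G` is conjugate to `F₀` up to an automorphism (`H1`), and conjugates of
`F₀` which commute are equal up to an automorphism (`H2`). Then there is a smooth surjective morphism `G → Spec B₀`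
identifying two points iff the corresponding conjugates of `F₀` agree up to automorphisms of `N`, locally.
-/

set_option autoImplicit false

open TensorProduct Coalgebra Bialgebra WithConv
open Groth.Agent.Sga3B.HaarDef Groth.Agent.Sga3B.TorusWt Groth.Agent.Sga3B.TorusLie
open Groth.Agent.Sga3B.TorusUniv Groth.Agent.Sga3.H812.Res Groth.Agent.Sga3.H812.Supp
open Groth.Agent.Sga3.H812.Univ

namespace Groth.Agent.Sga3.H812.Eqv

noncomputable section

universe u

variable {R : Type u} [CommRing R] {N Q : Type} [CommGroup N] [CommGroup Q]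
variable {C : Type u} [CommRing C] [HopfAlgebra R C] {ι' : Type} {c : ι' → C}
variable {X : Type u} [CommRing X] [Algebra R X]

lemma comp_pt {A B : Type*} [CommRing A] [Algebra R A] [CommRing B] [Algebra R B] (f : X →ₐ[R] A) (g : A →ₐ[R] B)
    (χ : N →* A) : g.comp (pt f χ) = pt (g.comp f) ((g : A →* B).comp χ) := by
  apply algHom_ext_single
  intro n x
  simp

variable (R N X) in
/-- the tautological character -/
def taut : N →* MonoidAlgebra R N ⊗[R] X :=
  (Algebra.TensorProduct.includeLeft : MonoidAlgebra R N →ₐ[R] MonoidAlgebra R N ⊗[R] X).toMonoidHom'.comp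
    (MonoidAlgebra.of R N)

lemma taut_apply (n : N) : taut R N X n = MonoidAlgebra.single n (1 : R) ⊗ₜ[R] (1 : X) := rfl

lemma pt_taut : pt (ι R (MonoidAlgebra R N) X) (taut R N X) = AlgHom.id R _ := by
  apply algHom_ext_single
  intro n x
  rw [pt_single, taut_apply, ι_apply, Algebra.TensorProduct.tmul_mul_tmul, mul_one, one_mul, one_smul]
  rfl

lemma pushG_pt_taut (F : WithConv (C →ₐ[R] MonoidAlgebra R N ⊗[R] X)) :
    pushG (pt (ι R (MonoidAlgebra R N) X) (taut R N X)) F = F := by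
  rw [pt_taut]
  rfl

/-- points of the image of `F` commute with `F` -/
lemma cj_pt_self {F : WithConv (C →ₐ[R] MonoidAlgebra R N ⊗[R] X)} (hF : IsHom F) (χ : N →* X) :
    cj (pushG (pt (AlgHom.id R X) χ) F) F = F := by
  have h : pushG (ι R (MonoidAlgebra R N) X) (pushG (pt (AlgHom.id R X) χ) F) * F =
      F * pushG (ι R (MonoidAlgebra R N) X) (pushG (pt (AlgHom.id R X) χ) F) := by
    have h1 : pushG (ι R (MonoidAlgebra R N) X) (pushG (pt (AlgHom.id R X) χ) F) =
        pushG (pt (ι R (MonoidAlgebra R N) X) (((ι R (MonoidAlgebra R N) X : _ →ₐ[R] _) : X →* _).comp χ)) F := by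
      rw [pushG_comp, comp_pt]
      rfl
    rw [h1]
    conv_lhs => rw [← pushG_pt_taut F]
    conv_rhs => rw [← pushG_pt_taut F]
    apply lin_injective
    rw [pushG_pt_taut, map_mul, map_mul]
    conv_lhs => rw [← pushG_pt_taut F]
    conv_rhs => rw [← pushG_pt_taut F]
    rw [pushG_pt_taut]
    have h2 : lin F = Phi F (ι R (MonoidAlgebra R N) X) (taut R N X) := by
      rw [← lin_pushG_pt, pushG_pt_taut]
    rw [lin_pushG_pt, h2]
    exact Phi_comm hF _ _ _
  rw [cj, h, mul_inv_cancel_right]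

lemma rg_equiv_comp {F : WithConv (C →ₐ[R] MonoidAlgebra R N ⊗[R] X)} {π : N →* Q} {φ : N ≃* N} {φ' : Q ≃* Q}
    (h : φ'.toMonoidHom.comp π = π.comp φ.toMonoidHom) :
    rg π (rg φ.toMonoidHom F) = rg φ'.toMonoidHom (rg π F) := by
  rw [rg_rg, rg_rg, h]

/-- Conjugates of `F₀` with the same restriction to `D(Q)` agree, up to an automorphism. -/
theorem exists_eq (hc : Algebra.adjoin R (Set.range c) = ⊤) {π : N →* Q} (hπs : Function.Surjective π)
    (hπφ : ∀ φ : N ≃* N, ∃ φ' : Q ≃* Q, φ'.toMonoidHom.comp π = π.comp φ.toMonoidHom)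
    {W W' : Finset N} (hWW' : W ⊆ W') (hWA : ∀ φ ∈ Level.Aw W, W.map φ.toEquiv.toEmbedding ⊆ W')
    (hπW : Set.InjOn π W') {F₀ : WithConv (C →ₐ[R] MonoidAlgebra R N ⊗[R] R)} (hF₀ : IsHom F₀)
    (hm : AMono F₀)
    (hW : ∀ (A : Type u) [CommRing A] [Algebra R A] (g : WithConv (C →ₐ[R] A)), SuppCl c (ob F₀ g) W)
    (H2 : ∀ (K : Type u) [Field K] [IsAlgClosed K] [Algebra R K] (g h : WithConv (C →ₐ[R] K)),
      (∀ χ : N →* K, cj (pushG (pt (AlgHom.id R K) χ) (ob F₀ h)) (ob F₀ g) = ob F₀ g) →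
      ∃ φ : N ≃* N, ob F₀ g = rg φ.toMonoidHom (ob F₀ h))
    [Nontrivial X] (g h : WithConv (C →ₐ[R] X)) (γ : Q ≃* Q)
    (hgh : rg π (ob F₀ g) = rg γ.toMonoidHom (rg π (ob F₀ h))) :
    ∃ φ : N ≃* N, ob F₀ g = rg φ.toMonoidHom (ob F₀ h) := by
  obtain ⟨M, hM⟩ := Ideal.exists_maximal X
  obtain ⟨K, _, _, _, f, hf⟩ := Orb.exists_geomPt R (⟨M, hM.isPrime⟩ : PrimeSpectrum X)
  have hghK : rg π (ob F₀ (pushG f g)) = rg γ.toMonoidHom (rg π (ob F₀ (pushG f h))) := by
    rw [← T_ob, ← T_ob, rg_T, rg_T, rg_T, hgh]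
  have hmh : AMono (ob F₀ (pushG f h)) := Locus.AMono.cj (Locus.AMono.map hm _) _
  obtain ⟨φ, hφ⟩ := H2 K (pushG f g) (pushG f h) (by
    intro χ
    refine ext_of_rg hc (hπW.mono hWW') ?_ (hW K _) ?_
    · rw [← ob_mul]
      exact hW K _
    · rw [rg_cj, hghK, ← rg_cj, ← rg_cj, cj_pt_self (isHom_ob hF₀ _)])
  obtain ⟨φ', hφ'⟩ := hπφ φ
  have hφA : φ ∈ Level.Aw W := by
    refine ⟨{n : N | ∃ i, cf (ob F₀ (pushG f h)) n (c i) ≠ 0}, ?_, Locus.closure_eq_top_of_amono' hc hmh, ?_⟩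
    · rintro n ⟨i, hi⟩
      by_contra hn
      exact hi (hW K _ i n hn)
    · rintro n ⟨i, hi⟩
      by_contra hn
      apply hi
      rw [← cf_rg_equiv φ, ← hφ]
      exact hW K _ i _ hn
  have hγ : γ = φ' := by
    apply Locus.eq_of_rg_eq (isHom_rg (isHom_ob hF₀ (pushG f h)) π)
      (closure_eq_top_of_amono (Locus.AMono.rg hmh hπs))
    rw [← hghK, hφ, rg_equiv_comp hφ']
  refine ⟨φ, ext_of_rg hc hπW (SuppCl.subset (hW X g) hWW')
    (SuppCl.subset (SuppCl.rg_equiv (hW X h) φ) (hWA φ hφA)) ?_⟩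
  rw [rg_equiv_comp hφ', ← hγ]
  exact hgh

/-- agreement up to automorphisms, locally -/
def LocEq (F₀ : WithConv (C →ₐ[R] MonoidAlgebra R N ⊗[R] R)) (g h : WithConv (C →ₐ[R] X)) : Prop :=
  ∀ p : PrimeSpectrum X, ∃ a : X, a ∉ p.asIdeal ∧ ∃ φ : N ≃* N,
    ∀ (A : Type u) [CommRing A] [Algebra R A] (l : X →ₐ[R] A), IsUnit (l a) →
      ob F₀ (pushG l g) = rg φ.toMonoidHom (ob F₀ (pushG l h))

lemma algHom_eq_of_local {A B : Type u} [CommRing A] [Algebra R A] [CommRing B] [Algebra R B] (f g : A →ₐ[R] B)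
    (h : ∀ p : PrimeSpectrum B, ∃ a : B, a ∉ p.asIdeal ∧
      ∀ x, algebraMap B (Localization.Away a) (f x) = algebraMap B (Localization.Away a) (g x)) : f = g := by
  apply AlgHom.ext
  intro x
  rw [← sub_eq_zero]
  by_contra hne
  have h1 : (LinearMap.ker (LinearMap.toSpanSingleton B B (f x - g x))) ≠ ⊤ := by
    intro h0
    apply hne
    have : (1 : B) ∈ LinearMap.ker (LinearMap.toSpanSingleton B B (f x - g x)) := by rw [h0]; trivial
    simpa using this
  obtain ⟨M, hM, hle⟩ := Ideal.exists_le_maximal _ h1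
  obtain ⟨a, ha, hax⟩ := h ⟨M, hM.isPrime⟩
  have h2 := hax x
  rw [← sub_eq_zero, ← map_sub, IsLocalization.map_eq_zero_iff (Submonoid.powers a)] at h2
  obtain ⟨⟨_, k, rfl⟩, hk⟩ := h2
  have h3 : a ^ k ∈ M := hle (by
    rw [LinearMap.mem_ker, LinearMap.toSpanSingleton_apply]
    exact hk)
  exact ha (hM.isPrime.mem_of_pow_mem k h3)

/-- **The scheme of maximal tori, local algebra form.** -/
theorem exists_tor {r : ℕ} [Algebra.Smooth R C]
    {F₀ : WithConv (C →ₐ[R] MonoidAlgebra R (Multiplicative (Fin r → ℤ)) ⊗[R] R)} (hF₀ : IsHom F₀)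
    (hm : AMono F₀)
    (H1 : ∀ (K : Type u) [Field K] [IsAlgClosed K] [Algebra R K]
      (F : WithConv (C →ₐ[R] MonoidAlgebra R (Multiplicative (Fin r → ℤ)) ⊗[R] K)), IsHom F → AMono F →
      ∃ (g : WithConv (C →ₐ[R] K)) (φ : Multiplicative (Fin r → ℤ) ≃* Multiplicative (Fin r → ℤ)),
        F = rg φ.toMonoidHom (ob F₀ g))
    (H2 : ∀ (K : Type u) [Field K] [IsAlgClosed K] [Algebra R K] (g h : WithConv (C →ₐ[R] K)),
      (∀ χ : Multiplicative (Fin r → ℤ) →* K,
        cj (pushG (pt (AlgHom.id R K) χ) (ob F₀ h)) (ob F₀ g) = ob F₀ g) →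
      ∃ φ : Multiplicative (Fin r → ℤ) ≃* Multiplicative (Fin r → ℤ), ob F₀ g = rg φ.toMonoidHom (ob F₀ h)) :
    ∃ (B₀ : Type u) (_ : CommRing B₀) (_ : Algebra R B₀) (q : B₀ →ₐ[R] C), q.toRingHom.Smooth ∧
      Function.Surjective (PrimeSpectrum.comap q.toRingHom) ∧
      ∀ (A : Type u) [CommRing A] [Algebra R A] (g h : WithConv (C →ₐ[R] A)),
        g.ofConv.comp q = h.ofConv.comp q ↔ LocEq F₀ g h := by
  classical
  have hft : Algebra.FiniteType R C := Algebra.FiniteType.of_finitePresentation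
  obtain ⟨s, hs⟩ := hft.out
  obtain ⟨k, ⟨e⟩⟩ : ∃ k : ℕ, Nonempty (Fin k ≃ s) := ⟨_, ⟨s.equivFin.symm⟩⟩
  let c : Fin k → C := fun i => e i
  have hc : Algebra.adjoin R (Set.range c) = ⊤ := by
    rw [← hs]
    congr 1
    ext x
    constructor
    · rintro ⟨i, rfl⟩
      exact (e i).2
    · intro hx
      exact ⟨e.symm ⟨x, hx⟩, by simp [c]⟩
  obtain ⟨W, hW⟩ := exists_supp_ob c F₀
  let W' : Finset (Multiplicative (Fin r → ℤ)) :=
    W ∪ (Level.finite_Aw W).toFinset.biUnion fun φ => W.map φ.toEquiv.toEmbedding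
  have hWW' : W ⊆ W' := Finset.subset_union_left
  have hWA : ∀ φ ∈ Level.Aw W, W.map φ.toEquiv.toEmbedding ⊆ W' := by
    intro φ hφ
    refine Finset.Subset.trans ?_ Finset.subset_union_right
    exact Finset.subset_biUnion_of_mem (fun φ : _ ≃* _ => W.map φ.toEquiv.toEmbedding)
      ((Level.finite_Aw W).mem_toFinset.2 hφ)
  obtain ⟨n, hn, hinj⟩ := Level.exists_level W'
  let π := QuotientGroup.mk' (Level.pw (Multiplicative (Fin r → ℤ)) n)
  have hπs : Function.Surjective π := QuotientGroup.mk'_surjective _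
  have : Finite (Multiplicative (Fin r → ℤ) ⧸ Level.pw (Multiplicative (Fin r → ℤ)) n) :=
    Level.finite_quotient _ hn
  have hπφ := Level.exists_equiv (N := Multiplicative (Fin r → ℤ)) n
  obtain ⟨B₀, _, _, q, hq1, hq2, hq3, hq4⟩ := Quo.exists_quot hc hπs hπφ (hinj.mono hWW') hF₀ hm hW H1
  refine ⟨B₀, inferInstance, inferInstance, q, hq1, hq2, fun A _ _ g h => ⟨fun hgh p => ?_, fun hgh => ?_⟩⟩
  · obtain ⟨a, ha, γ, hγ⟩ := hq3 A g h hgh p
    let l₀ : A →ₐ[R] Localization.Away a := IsScalarTower.toAlgHom R A (Localization.Away a)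
    have hu : IsUnit (l₀ a) := IsLocalization.Away.algebraMap_isUnit a
    have hnt : Nontrivial (Localization.Away a) := by
      refine ⟨⟨1, 0, fun h01 => ?_⟩⟩
      have h1 : algebraMap A (Localization.Away a) 1 = 0 := by rw [map_one, h01]
      rw [IsLocalization.map_eq_zero_iff (Submonoid.powers a)] at h1
      obtain ⟨⟨_, k, rfl⟩, hk⟩ := h1
      rw [mul_one] at hk
      exact ha (p.isPrime.mem_of_pow_mem k (by
        have : a ^ k = 0 := hk
        rw [this]
        exact Ideal.zero_mem _))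
    obtain ⟨φ, hφ⟩ := exists_eq hc hπs hπφ hWW' hWA hinj hF₀ hm hW H2 (pushG l₀ g) (pushG l₀ h) γ
      (hγ _ l₀ hu)
    refine ⟨a, ha, φ, fun A' _ _ l hl => ?_⟩
    have hu' : ∀ y : Submonoid.powers a, IsUnit (l y) := by
      rintro ⟨_, k, rfl⟩
      show IsUnit (l (a ^ k))
      rw [map_pow]
      exact hl.pow k
    let l' : Localization.Away a →ₐ[R] A' := IsLocalization.liftAlgHom (M := Submonoid.powers a) (f := l) hu'
    have hl' : l'.comp l₀ = l := by
      apply AlgHom.ext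
      intro x
      exact IsLocalization.lift_eq _ x
    have h2 := congrArg (pushG (T (MonoidAlgebra R (Multiplicative (Fin r → ℤ))) l')) hφ
    rw [T_ob, ← rg_T, T_ob, pushG_comp, pushG_comp, hl'] at h2
    exact h2
  · apply algHom_eq_of_local
    intro p
    obtain ⟨a, ha, φ, hφ⟩ := hgh p
    let l₀ : A →ₐ[R] Localization.Away a := IsScalarTower.toAlgHom R A (Localization.Away a)
    have hu : IsUnit (l₀ a) := IsLocalization.Away.algebraMap_isUnit a
    obtain ⟨φ', hφ'⟩ := hπφ φ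
    have h1 := hq4 _ (pushG l₀ g) (pushG l₀ h) φ' (by
      rw [hφ _ l₀ hu]
      exact rg_equiv_comp hφ')
    exact ⟨a, ha, fun x => AlgHom.congr_fun h1 x⟩

end

end Groth.Agent.Sga3.H812.Eqv
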