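import Groth.Agent.Sga3.H812.SelfStr
import Groth.Agent.Sga3.H784.NAMain

/-!
# Monomorphisms from a split torus to a group over an algebraically closed field, in the algebra language
-/

set_option autoImplicit false

open CategoryTheory MonoidalCategory CartesianMonoidalCategory AlgebraicGeometry Limits Opposite
open TensorProduct WithConv
open scoped MonObj
open Groth.Agent.Sga3B.HaarDef Groth.Agent.Sga3B.AffTest Groth.Agent.Sga3B.PtData Groth.Agent.Sga3B.TorusLie
open Groth.Agent.Sga3B.TorusWt Groth.Agent.Sga3B.PtMor Groth.Agent.Sga3B.PtProp Groth.Agent.Sga3B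
open Groth.Agent.Sga3.H812.Res Groth.Agent.Sga3.H812.Univ

namespace Groth.Agent.Sga3.H812.Fld

noncomputable section

universe u

section General

variable {R C L : Type u} [CommRing R] [CommRing C] [HopfAlgebra R C] [CommRing L] [Algebra R L]
variable {N : Type} [CommGroup N]
variable {T G : Over (Spec (CommRingCat.of L))} [GrpObj T] [GrpObj G] {PT : PtStr R (MonoidAlgebra R N) L T}
    {PG : PtStr R C L G}

lemma toUnit_eq (g : 𝟙_ (Over (Spec (CommRingCat.of L))) ⟶ G) (A : Type u) [CommRing A] [Algebra R A] [Algebra L A]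
    [IsScalarTower R L A] : toUnit (sp L A) ≫ g =
      PG.e A (pushG (IsScalarTower.toAlgHom R L A) ((PG.e L).symm (toUnit (sp L L) ≫ g))) := by
  have h1 : toUnit (sp L A) = spMap (Algebra.ofId L A) ≫ toUnit (sp L L) := toUnit_unique _ _
  rw [h1, Category.assoc]
  conv_lhs => rw [← (PG.e L).apply_symm_apply (toUnit (sp L L) ≫ g)]
  rw [PG.nat]
  congr 2

/-- conjugates of a homomorphism -/
theorem corr_conj {i : T ⟶ G} {F : WithConv (C →ₐ[R] MonoidAlgebra R N ⊗[R] L)} (h : Corr PT PG i F)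
    (g : 𝟙_ (Over (Spec (CommRingCat.of L))) ⟶ G) :
    Corr PT PG ((toUnit T ≫ g) * i * (toUnit T ≫ g)⁻¹) (cj ((PG.e L).symm (toUnit (sp L L) ≫ g)) F) := by
  intro A _ _ _ _ χ
  have h5 : pushG (pt (IsScalarTower.toAlgHom R L A) χ) (cj ((PG.e L).symm (toUnit (sp L L) ≫ g)) F) =
      pushG (IsScalarTower.toAlgHom R L A) ((PG.e L).symm (toUnit (sp L L) ≫ g)) *
        pushG (pt (IsScalarTower.toAlgHom R L A) χ) F *
        (pushG (IsScalarTower.toAlgHom R L A) ((PG.e L).symm (toUnit (sp L L) ≫ g)))⁻¹ := by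
    rw [cj, map_mul, map_mul, map_inv, pushG_comp, Locus.pt_comp_ι]
  rw [h5, MonObj.comp_mul, MonObj.comp_mul, GrpObj.comp_inv, h, ← Category.assoc,
    toUnit_unique (_ ≫ toUnit T) (toUnit _), toUnit_eq (PG := PG) g A, map_mul, map_mul, map_inv]

/-- composition with a homomorphism of diagonalisable groups -/
theorem corr_comp {N' : Type} [CommGroup N'] {T' : Over (Spec (CommRingCat.of L))} [GrpObj T']
    {PT' : PtStr R (MonoidAlgebra R N') L T'} {f : T ⟶ T'} {j : T' ⟶ G}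
    {Ff : WithConv (MonoidAlgebra R N' →ₐ[R] MonoidAlgebra R N ⊗[R] L)} (hf : Corr PT PT' f Ff)
    {F : WithConv (C →ₐ[R] MonoidAlgebra R N' ⊗[R] L)} (hj : Corr PT' PG j F) (φ : N' →* N)
    (hφ : ∀ m, Ff (MonoidAlgebra.single m 1) = MonoidAlgebra.single (φ m) 1 ⊗ₜ 1) :
    Corr PT PG (f ≫ j) (rg φ F) := by
  intro A _ _ _ _ χ
  have h1 : chPt PT A χ ≫ f = chPt PT' A (χ.comp φ) := by
    rw [hf]
    show PT'.e A _ = PT'.e A _
    congr 1
    apply WithConv.ofConv_injective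
    apply ma_ext
    intro m
    show pt (IsScalarTower.toAlgHom R L A) χ (Ff (MonoidAlgebra.single m 1)) =
      MonoidAlgebra.lift R A N' (χ.comp φ) (MonoidAlgebra.single m 1)
    rw [hφ, pt_single]
    simp
  rw [← Category.assoc, h1, hj, Locus.pushG_pt_rg]

end General

section Field

variable {R C K : Type u} [CommRing R] [CommRing C] [HopfAlgebra R C] [Field K] [Algebra R K] {r : ℕ}
variable {T G : Over (Spec (CommRingCat.of K))} [GrpObj T] [GrpObj G]
  (PT : PtStr R (MonoidAlgebra R (Multiplicative (Fin r → ℤ))) K T) (PG : PtStr R C K G)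

omit [Algebra R K] in
lemma isIso_toUnit : IsIso (toUnit (sp K K)) := by
  have h1 : (sp K K).hom = 𝟙 _ := by
    rw [sp_hom]
    exact Spec.map_id _
  have h2 : (toUnit (sp K K)).left = (sp K K).hom := by
    have := Over.w (toUnit (sp K K))
    exact (Category.comp_id _).symm.trans this
  have h3 : IsIso (toUnit (sp K K)).left := by
    rw [h2, h1]
    exact IsIso.id _
  have : IsIso ((Over.forget _).map (toUnit (sp K K))) := h3
  exact isIso_of_reflects_iso _ (Over.forget _)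

/-- a monomorphism between split tori of the same rank -/
theorem exists_equiv_of_comp [IsAffine T.left] {f : T ⟶ T} {i j : T ⟶ G} (hfj : f ≫ j = i) [IsMonHom i] [Mono i]
    [IsMonHom j] [Mono j] {F F' : WithConv (C →ₐ[R] MonoidAlgebra R (Multiplicative (Fin r → ℤ)) ⊗[R] K)}
    (hF : Corr PT PG i F) (hF' : Corr PT PG j F') :
    ∃ φ : Multiplicative (Fin r → ℤ) ≃* Multiplicative (Fin r → ℤ), F = rg φ.toMonoidHom F' := by
  have hm : IsMonHom (f ≫ j) := by rw [hfj]; infer_instance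
  have hmo : Mono (f ≫ j) := by rw [hfj]; infer_instance
  have : IsMonHom f := MaxTorusCrit.isMonHom_of_comp_mono f j
  have : Mono f := mono_of_mono f j
  obtain ⟨Ff, hFf⟩ := exists_corr PT PT f
  obtain ⟨h, hh⟩ := TorusHomField.exists_mulEquiv le_rfl (isHom_of_isMonHom hFf) (amono_of_mono hFf)
  have h1 := corr_comp hFf hF' h.toMonoidHom hh
  rw [hfj] at h1
  exact ⟨h, hF.unique h1⟩

include PT PG

variable [IsAlgClosed K] [IsAffine T.left] [IsAffine G.left] [LocallyOfFiniteType G.hom]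

/-- **(H1)** every monomorphism from the split torus of the rank of a maximal torus is conjugate to it -/
theorem exists_conj (hT : Red.IsSplitTorusWith (Fin r → ℤ) T) {i : T ⟶ G} (hi : Red.IsMaximalTorus i)
    {F₀ : WithConv (C →ₐ[R] MonoidAlgebra R (Multiplicative (Fin r → ℤ)) ⊗[R] K)} (h₀ : Corr PT PG i F₀)
    {F : WithConv (C →ₐ[R] MonoidAlgebra R (Multiplicative (Fin r → ℤ)) ⊗[R] K)} (hF : IsHom F) (hm : AMono F) :
    ∃ (g : WithConv (C →ₐ[R] K)) (φ : Multiplicative (Fin r → ℤ) ≃* Multiplicative (Fin r → ℤ)),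
      F = rg φ.toMonoidHom (cj g F₀) := by
  obtain ⟨j, hj⟩ := exists_mor PT PG F
  have h1 : IsMonHom j := isMonHom_of_isHom hj hF
  have h2 : Mono j := mono_of_amono hj hm
  have h3 : Red.IsMaximalTorus j := Groth.Agent.Sga3.H784.NAMain.isMaximalTorus_of_rank_le i hi j hT hT le_rfl
  obtain ⟨g, φ, hφ⟩ := Groth.Agent.Sga3.H784.NAMain.exists_conjBy j i h3 hi
  have h4 := corr_conj hj g
  rw [hφ] at h4
  have : IsMonHom (φ.hom ≫ i) := isMonHom_of_isHom h4 (isHom_cj hF _)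
  have : IsMonHom i := hi.1
  have : Mono i := hi.2.1
  obtain ⟨ψ, hψ⟩ := exists_equiv_of_comp PT PG (f := φ.hom) (i := φ.hom ≫ i) (j := i) rfl h4 h₀
  refine ⟨((PG.e K).symm (toUnit (sp K K) ≫ g))⁻¹, ψ, ?_⟩
  rw [rg_cj, ← hψ, cj_inv_cj]

/-- **(H2)** commuting maximal tori are equal -/
theorem exists_eq_of_commute (hT : Red.IsSplitTorusWith (Fin r → ℤ) T) {i : T ⟶ G} (hi : Red.IsMaximalTorus i)
    {F₁ F₂ : WithConv (C →ₐ[R] MonoidAlgebra R (Multiplicative (Fin r → ℤ)) ⊗[R] K)}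
    (h₁ : IsHom F₁) (hm₁ : AMono F₁) (h₂ : IsHom F₂) (hm₂ : AMono F₂)
    (hc : ∀ χ : Multiplicative (Fin r → ℤ) →* K, cj (pushG (pt (AlgHom.id R K) χ) F₂) F₁ = F₁) :
    ∃ φ : Multiplicative (Fin r → ℤ) ≃* Multiplicative (Fin r → ℤ), F₁ = rg φ.toMonoidHom F₂ := by
  obtain ⟨j₁, hj₁⟩ := exists_mor PT PG F₁
  obtain ⟨j₂, hj₂⟩ := exists_mor PT PG F₂
  have m1 : IsMonHom j₁ := isMonHom_of_isHom hj₁ h₁
  have m2 : Mono j₁ := mono_of_amono hj₁ hm₁
  have m3 : IsMonHom j₂ := isMonHom_of_isHom hj₂ h₂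
  have m4 : Mono j₂ := mono_of_amono hj₂ hm₂
  have h3 : Red.IsMaximalTorus j₁ := Groth.Agent.Sga3.H784.NAMain.isMaximalTorus_of_rank_le i hi j₁ hT hT le_rfl
  obtain ⟨f, hf⟩ := Groth.Agent.Sga3.H784.NAMain.exists_factor_of_commute j₁ h3 j₂ hi.2.2.1 (by
    intro t s
    have := isIso_toUnit (K := K)
    rw [← cancel_epi (toUnit (sp K K)), MonObj.comp_mul, MonObj.comp_mul, ← Category.assoc, ← Category.assoc]
    obtain ⟨χ, hχ⟩ := (chPt PT K).surjective (toUnit (sp K K) ≫ t)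
    obtain ⟨χ', hχ'⟩ := (chPt PT K).surjective (toUnit (sp K K) ≫ s)
    have hid : IsScalarTower.toAlgHom R K K = AlgHom.id R K := by
      apply AlgHom.ext
      intro x
      rfl
    rw [← hχ, ← hχ', hj₁, hj₂, hid, ← map_mul, ← map_mul]
    congr 1
    have h5 := congrArg (pushG (pt (AlgHom.id R K) χ)) (hc χ')
    rw [cj, map_mul, map_mul, map_inv, pushG_comp, Locus.pt_comp_ι] at h5
    have h6 := mul_inv_eq_iff_eq_mul.1 h5
    exact h6.symm)
  obtain ⟨φ, hφ⟩ := exists_equiv_of_comp PT PG hf hj₂ hj₁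
  refine ⟨φ.symm, ?_⟩
  rw [hφ, rg_rg]
  have h7 : φ.symm.toMonoidHom.comp φ.toMonoidHom = MonoidHom.id _ := by
    refine MonoidHom.ext fun x => ?_
    exact φ.symm_apply_apply x
  rw [h7, rg_id]

end Field

end

end Groth.Agent.Sga3.H812.Fld
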