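import Groth.Agent.Sga1.FreeQuot
import Mathlib.RingTheory.Spectrum.Prime.Topology
import Mathlib.RingTheory.Invariant.Basic
import Mathlib.RingTheory.Etale.Basic

/-!
# Free actions of a finite group: points of the quotient

`G` a finite group acting freely on the `R`-algebra `B`, `B₀ = B^G`. Two points of `B` with the same restriction to
`B₀` differ by an element of `G`, locally on the source.
-/

set_option autoImplicit false

open TensorProduct

namespace Groth.Agent.Sga3.H812.Gal

open Groth.Agent.Sga1.FreeQuot

noncomputable section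

variable {A B G : Type*} [CommRing A] [CommRing B] [Algebra A B] [Group G]
  [MulSemiringAction G B] [SMulCommClass G A B]

variable (A B) in
/-- `x ⊗ y ↦ x ⊗ g y` -/
def tw (g : G) : B ⊗[A] B →ₐ[A] B ⊗[A] B :=
  Algebra.TensorProduct.map (AlgHom.id A B) (MulSemiringAction.toAlgHom A B g)

@[simp] lemma tw_tmul (g : G) (x y : B) : tw A B g (x ⊗ₜ[A] y) = x ⊗ₜ[A] (g • y) := rfl

lemma ev_tw (g h : G) (t : B ⊗[A] B) : ev A g (tw A B h t) = ev A (g * h) t := by
  induction t using TensorProduct.induction_on with
  | zero => simp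
  | tmul x y => rw [tw_tmul, ev_tmul, ev_tmul, mul_smul]
  | add x y hx hy => rw [map_add, map_add, map_add, hx, hy]

/-- Two ring homomorphisms from `B` which agree on the invariants differ by an element of `G`, locally. -/
theorem exists_idem [Fintype G] [Algebra.IsInvariant A B G] (hinj : Function.Injective (algebraMap A B))
    (hfree : ∀ g : G, g ≠ 1 → ∀ M : Ideal B, M.IsMaximal → ∃ b, g • b - b ∉ M)
    {X : Type*} [CommRing X] (x y : B →+* X) (h : x.comp (algebraMap A B) = y.comp (algebraMap A B)) :
    ∃ a : G → X, ∑ g, a g = 1 ∧ ∀ g b, a g * x b = a g * y (g • b) := by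
  classical
  obtain ⟨e, he⟩ := exists_isSep A hfree
  let _ : Algebra A X := (x.comp (algebraMap A B)).toAlgebra
  let x' : B →ₐ[A] X := { x with commutes' := fun _ => rfl }
  let y' : B →ₐ[A] X := { y with commutes' := fun r => (RingHom.congr_fun h r).symm }
  let t : B ⊗[A] B →ₐ[A] X := Algebra.TensorProduct.lift x' y' (fun _ _ => Commute.all _ _)
  have h1 : ∑ g : G, tw A B g e = 1 := by
    rw [← sub_eq_zero]
    apply eq_zero_of_ev hinj e he
    intro g
    rw [map_sub, map_sum, map_one, Finset.sum_eq_single g⁻¹]
    · rw [ev_tw, mul_inv_cancel, he.1, sub_self]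
    · intro k _ hk
      rw [ev_tw]
      apply he.2
      intro h0
      exact hk (eq_inv_of_mul_eq_one_right h0)
    · intro h0
      exact absurd (Finset.mem_univ _) h0
  refine ⟨fun g => t (tw A B g e), ?_, fun g b => ?_⟩
  · rw [← map_sum, h1, map_one]
  · have h2 : tw A B g e * (b ⊗ₜ[A] 1) = tw A B g e * (1 ⊗ₜ[A] (g • b)) := by
      rw [← sub_eq_zero, ← mul_sub]
      apply eq_zero_of_ev hinj e he
      intro k
      rw [map_mul, ev_tw, map_sub, ev_tmul, ev_tmul, one_mul, ← mul_smul]
      by_cases hk : k * g = 1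
      · rw [hk, one_smul, smul_one, mul_one, sub_self, mul_zero]
      · rw [he.2 _ hk, zero_mul]
    have h3 := congrArg t h2
    rw [map_mul, map_mul] at h3
    have h4 : t (b ⊗ₜ[A] 1) = x b := by
      show Algebra.TensorProduct.lift x' y' (fun _ _ => Commute.all _ _) (b ⊗ₜ[A] 1) = x b
      rw [Algebra.TensorProduct.lift_tmul, map_one, mul_one]
      rfl
    have h5 : t (1 ⊗ₜ[A] (g • b)) = y (g • b) := by
      show Algebra.TensorProduct.lift x' y' (fun _ _ => Commute.all _ _) (1 ⊗ₜ[A] (g • b)) = y (g • b)
      rw [Algebra.TensorProduct.lift_tmul, map_one, one_mul]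
      rfl
    rw [h4, h5] at h3
    exact h3

omit [Group G] in
/-- At every point, some `a g` is invertible. -/
lemma exists_notMem {X : Type*} [CommRing X] [Fintype G] {a : G → X} (ha : ∑ g, a g = 1) (p : Ideal X) [hp : p.IsPrime] :
    ∃ g, a g ∉ p := by
  by_contra h
  push Not at h
  apply hp.ne_top
  rw [Ideal.eq_top_iff_one, ← ha]
  exact Ideal.sum_mem _ fun g _ => h g

variable (R : Type*) [CommRing R] [Algebra R B] [SMulCommClass G R B]

instance isInvariant : Algebra.IsInvariant (FixedPoints.subalgebra R B G) B G where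
  isInvariant b hb := ⟨⟨b, hb⟩, rfl⟩

instance smulComm : SMulCommClass G (FixedPoints.subalgebra R B G) B where
  smul_comm g a b := by
    rw [Algebra.smul_def, Algebra.smul_def, smul_mul']
    congr 1
    exact a.2 g

theorem etale [Finite G] (hfree : ∀ g : G, g ≠ 1 → ∀ M : Ideal B, M.IsMaximal → ∃ b, g • b - b ∉ M) :
    Algebra.Etale (FixedPoints.subalgebra R B G) B :=
  etale_of_free (G := G) Subtype.val_injective hfree

theorem surjective_comap [Finite G] :
    Function.Surjective (PrimeSpectrum.comap (algebraMap (FixedPoints.subalgebra R B G) B)) := by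
  have : Algebra.IsIntegral (FixedPoints.subalgebra R B G) B :=
    Algebra.IsInvariant.isIntegral (FixedPoints.subalgebra R B G) B G
  have : FaithfulSMul (FixedPoints.subalgebra R B G) B :=
    (faithfulSMul_iff_algebraMap_injective _ _).2 Subtype.val_injective
  exact Algebra.IsIntegral.comap_surjective _ _

end

end Groth.Agent.Sga3.H812.Gal
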