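import Groth.Agent.Sga3.H812.Supp
import Mathlib.RingTheory.Ideal.IdempotentFG

/-!
# The locus where a homomorphism from a diagonalisable group is a monomorphism is closed
-/

set_option autoImplicit false

open TensorProduct Coalgebra Bialgebra WithConv
open Groth.Agent.Sga3B.HaarDef Groth.Agent.Sga3B.TorusWt Groth.Agent.Sga3B.TorusLie
open Groth.Agent.Sga3B.TorusUniv Groth.Agent.Sga3.H812.Res Groth.Agent.Sga3.H812.Supp

namespace Groth.Agent.Sga3.H812.Locus

noncomputable section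

universe u

variable {R : Type u} [CommRing R] {N Q : Type} [CommGroup N] [CommGroup Q]
variable {C : Type u} [CommRing C] [HopfAlgebra R C] {ι' : Type} {c : ι' → C}
variable {X Y : Type u} [CommRing X] [Algebra R X] [CommRing Y] [Algebra R Y]

/-- the ideal generated by the coefficients outside `H` -/
def JL (c : ι' → C) (F : WithConv (C →ₐ[R] MonoidAlgebra R N ⊗[R] X)) (H : Subgroup N) : Ideal X :=
  Ideal.span {x | ∃ i n, n ∉ H ∧ cf F n (c i) = x}

lemma cf_mem_JL (F : WithConv (C →ₐ[R] MonoidAlgebra R N ⊗[R] X)) (H : Subgroup N) (i : ι') {n : N}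
    (hn : n ∉ H) : cf F n (c i) ∈ JL c F H := Ideal.subset_span ⟨i, n, hn, rfl⟩

lemma cf_mem_JL' (hc : Algebra.adjoin R (Set.range c) = ⊤) (F : WithConv (C →ₐ[R] MonoidAlgebra R N ⊗[R] X))
    (H : Subgroup N) (x : C) {n : N} (hn : n ∉ H) : cf F n x ∈ JL c F H := by
  let m : X →ₐ[R] X ⧸ JL c F H := Ideal.Quotient.mkₐ R _
  have h : cf (pushG (T (MonoidAlgebra R N) m) F) n x = 0 := by
    refine cf_eq_zero_of_supp hc H (fun i k hk => ?_) hn x
    rw [cf_pushG_T, push_apply]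
    exact Ideal.Quotient.eq_zero_iff_mem.2 (cf_mem_JL F H i hk)
  rw [cf_pushG_T, push_apply] at h
  exact Ideal.Quotient.eq_zero_iff_mem.1 h

lemma JL_fg [Finite ι'] (F : WithConv (C →ₐ[R] MonoidAlgebra R N ⊗[R] X)) (H : Subgroup N) :
    (JL c F H).FG := by
  classical
  obtain ⟨W, hW⟩ := exists_suppCl c F
  have hfin : (Set.range fun p : ι' × (W : Finset N) => cf F (p.2 : N) (c p.1)).Finite := Set.finite_range _
  have hsub : {x | ∃ i n, n ∉ H ∧ cf F n (c i) = x} ⊆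
      insert 0 (Set.range fun p : ι' × (W : Finset N) => cf F (p.2 : N) (c p.1)) := by
    rintro _ ⟨i, n, _, rfl⟩
    by_cases hn : n ∈ W
    · exact Or.inr ⟨(i, ⟨n, hn⟩), rfl⟩
    · exact Or.inl (hW i n hn)
  have hf : {x | ∃ i n, n ∉ H ∧ cf F n (c i) = x}.Finite := (hfin.insert 0).subset hsub
  exact ⟨hf.toFinset, by rw [Set.Finite.coe_toFinset, JL]⟩

lemma JL_idem (hc : Algebra.adjoin R (Set.range c) = ⊤)
    {F : WithConv (C →ₐ[R] MonoidAlgebra R N ⊗[R] X)} (hF : IsHom F) (H : Subgroup N) :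
    IsIdempotentElem (JL c F H) := by
  classical
  refine le_antisymm Ideal.mul_le_right ?_
  conv_lhs => rw [JL]
  rw [Ideal.span_le]
  rintro _ ⟨i, n, hn, rfl⟩
  have h := cf_mul_cf hF n n
  rw [if_pos rfl] at h
  have h2 := congrArg (fun q : WithConv (C →ₗ[R] X) => q (c i)) h
  simp only [convMul_repr] at h2
  show cf F n (c i) ∈ JL c F H * JL c F H
  rw [← h2]
  exact Ideal.sum_mem _ fun j _ => Ideal.mul_mem_mul (cf_mem_JL' hc F H _ hn) (cf_mem_JL' hc F H _ hn)

lemma isClopen_zeroLocus_JL [Finite ι'] (hc : Algebra.adjoin R (Set.range c) = ⊤)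
    {F : WithConv (C →ₐ[R] MonoidAlgebra R N ⊗[R] X)} (hF : IsHom F) (H : Subgroup N) :
    IsClopen (PrimeSpectrum.zeroLocus (JL c F H : Set X)) := by
  obtain ⟨e, he, he'⟩ := (Ideal.isIdempotentElem_iff_of_fg _ (JL_fg (c := c) F H)).1 (JL_idem hc hF H)
  rw [PrimeSpectrum.isClopen_iff_zeroLocus]
  refine ⟨e, he, ?_⟩
  rw [he', ← PrimeSpectrum.zeroLocus_span {e}]

/-- the points where `F` is a monomorphism -/
def mono (c : ι' → C) (F : WithConv (C →ₐ[R] MonoidAlgebra R N ⊗[R] X)) : Set (PrimeSpectrum X) :=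
  {y | ∀ H : Subgroup N, H ≠ ⊤ → ¬ (JL c F H ≤ y.asIdeal)}

lemma isClosed_mono [Finite ι'] (hc : Algebra.adjoin R (Set.range c) = ⊤)
    {F : WithConv (C →ₐ[R] MonoidAlgebra R N ⊗[R] X)} (hF : IsHom F) : IsClosed (mono c F) := by
  have : mono c F = ⋂ H : {H : Subgroup N // H ≠ ⊤}, (PrimeSpectrum.zeroLocus (JL c F H.1 : Set X))ᶜ := by
    ext y
    simp only [mono, Set.mem_ofPred_eq, Set.mem_iInter, Set.mem_compl_iff, PrimeSpectrum.mem_zeroLocus,
      SetLike.coe_subset_coe]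
    exact ⟨fun h H => h H.1 H.2, fun h H hH => h ⟨H, hH⟩⟩
  rw [this]
  exact isClosed_iInter fun H => (isClopen_zeroLocus_JL hc hF H.1).compl.isClosed

lemma closure_eq_top_of_amono' [Nontrivial X] (hc : Algebra.adjoin R (Set.range c) = ⊤)
    {F : WithConv (C →ₐ[R] MonoidAlgebra R N ⊗[R] X)} (hF : AMono F) :
    Subgroup.closure {n : N | ∃ i, cf F n (c i) ≠ 0} = ⊤ := by
  rw [eq_top_iff, ← closure_eq_top_of_amono hF, Subgroup.closure_le]
  rintro n ⟨x, hx⟩
  by_contra hn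
  refine hx (cf_eq_zero_of_supp hc _ (fun i k hk => ?_) hn x)
  by_contra h0
  exact hk (Subgroup.subset_closure ⟨i, h0⟩)

lemma mem_mono_iff (hc : Algebra.adjoin R (Set.range c) = ⊤)
    {F : WithConv (C →ₐ[R] MonoidAlgebra R N ⊗[R] X)} (hF : IsHom F) {K : Type u} [Field K] [Algebra R K]
    (f : X →ₐ[R] K) (y : PrimeSpectrum X) (hy : y.asIdeal = RingHom.ker f) :
    y ∈ mono c F ↔ AMono (pushG (T (MonoidAlgebra R N) f) F) := by
  constructor
  · intro h
    refine amono_of_isUnit (hF.map f) (W := {n : N | ∃ i, cf (pushG (T (MonoidAlgebra R N) f) F) n (c i) ≠ 0})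
      ?_ (fun n ⟨i, hi⟩ => ⟨c i, isUnit_iff_ne_zero.2 hi⟩)
    by_contra hH
    apply h _ hH
    rw [JL, Ideal.span_le]
    rintro _ ⟨i, n, hn, rfl⟩
    rw [hy]
    by_contra h0
    refine hn (Subgroup.subset_closure ⟨i, ?_⟩)
    rw [cf_pushG_T]
    exact h0
  · intro h H hH hle
    apply hH
    rw [eq_top_iff, ← closure_eq_top_of_amono' hc h, Subgroup.closure_le]
    rintro n ⟨i, hi⟩
    by_contra hn
    apply hi
    rw [cf_pushG_T]
    have := hle (cf_mem_JL F H i hn)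
    rw [hy] at this
    exact this

/-! ### Uniqueness of automorphisms -/

lemma eq_of_rg_eq {F : WithConv (C →ₐ[R] MonoidAlgebra R N ⊗[R] X)} (hF : IsHom F)
    (hg : Subgroup.closure {n : N | ∃ x : C, cf F n x ≠ 0} = ⊤) {φ φ' : N ≃* Q}
    (h : rg φ.toMonoidHom F = rg φ'.toMonoidHom F) : φ = φ' := by
  classical
  have h1 : φ.toMonoidHom = φ'.toMonoidHom := by
    apply MonoidHom.eq_of_eqOn_dense hg
    rintro n ⟨x, hx⟩
    have e1 : cf F n = cf F (φ'.symm (φ n)) := by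
      rw [← cf_rg_equiv φ F n, h]
      conv_lhs => rw [← φ'.apply_symm_apply (φ n)]
      exact cf_rg_equiv φ' F _
    by_contra hne
    have hne' : n ≠ φ'.symm (φ n) := by
      intro h0
      apply hne
      show φ n = φ' n
      conv_rhs => rw [h0]
      exact (φ'.apply_symm_apply (φ n)).symm
    have e2 := cf_mul_cf hF n n
    rw [if_pos rfl] at e2
    have e3 := cf_mul_cf hF n (φ'.symm (φ n))
    rw [if_neg hne', ← e1, e2] at e3
    apply hx
    rw [e3]
    rfl
  ext n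
  exact DFunLike.congr_fun h1 n

lemma pushG_pt_rg {A : Type*} [CommRing A] [Algebra R A] (π : N →* Q) (F : WithConv (C →ₐ[R] MonoidAlgebra R N ⊗[R] X)) (f : X →ₐ[R] A)
    (χ : Q →* A) : pushG (pt f χ) (rg π F) = pushG (pt f (χ.comp π)) F := by
  have h : (pt f χ).comp (rs R π X) = pt f (χ.comp π) := by
    apply algHom_ext_single
    intro n x
    simp
  rw [rg, pushG_comp, h]

lemma AMono.rg {F : WithConv (C →ₐ[R] MonoidAlgebra R N ⊗[R] X)} (hF : AMono F) {π : N →* Q}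
    (hπ : Function.Surjective π) : AMono (Res.rg π F) := by
  intro A _ _ f χ χ' h
  rw [pushG_pt_rg, pushG_pt_rg] at h
  exact (MonoidHom.cancel_right hπ).1 (hF A f _ _ h)

lemma pt_comp_T {A : Type*} [CommRing A] [Algebra R A] (h : X →ₐ[R] Y) (f : Y →ₐ[R] A) (χ : N →* A) :
    (pt f χ).comp (T (MonoidAlgebra R N) h) = pt (f.comp h) χ := by
  apply algHom_ext_single
  intro n x
  simp

lemma AMono.map {F : WithConv (C →ₐ[R] MonoidAlgebra R N ⊗[R] X)} (hF : AMono F) (h : X →ₐ[R] Y) :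
    AMono (pushG (T (MonoidAlgebra R N) h) F) := by
  intro A _ _ f χ χ' hh
  rw [pushG_comp, pushG_comp, pt_comp_T, pt_comp_T] at hh
  exact hF A _ _ _ hh

lemma pt_comp_ι {A : Type*} [CommRing A] [Algebra R A] (f : X →ₐ[R] A) (χ : N →* A) :
    (pt f χ).comp (ι R (MonoidAlgebra R N) X) = f := by
  apply AlgHom.ext
  intro x
  simp [MonoidAlgebra.one_def]

lemma AMono.cj {F : WithConv (C →ₐ[R] MonoidAlgebra R N ⊗[R] X)} (hF : AMono F) (g : WithConv (C →ₐ[R] X)) :
    AMono (Res.cj g F) := by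
  intro A _ _ f χ χ' h
  apply hF A f
  rw [Res.cj, map_mul, map_mul, map_mul, map_mul, map_inv, map_inv, pushG_comp, pushG_comp, pt_comp_ι,
    pt_comp_ι] at h
  exact mul_left_cancel (mul_right_cancel h)

end

end Groth.Agent.Sga3.H812.Locus
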