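import Groth.Agent.Sga3.H812.Univ
import Mathlib.RingTheory.Spectrum.Prime.Chevalley
import Mathlib.RingTheory.Smooth.Flat
import Mathlib.FieldTheory.IsAlgClosed.AlgebraicClosure

/-!
# The open and closed subscheme of subgroups conjugate to `T[n]`
-/

set_option autoImplicit false

open TensorProduct Coalgebra Bialgebra WithConv
open Groth.Agent.Sga3B.HaarDef Groth.Agent.Sga3B.TorusWt Groth.Agent.Sga3B.TorusLie
open Groth.Agent.Sga3B.TorusUniv Groth.Agent.Sga3.H812.Res Groth.Agent.Sga3.H812.Supp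
open Groth.Agent.Sga3.H812.Univ

namespace Groth.Agent.Sga3.H812.Orb

noncomputable section

universe u

variable {R : Type u} [CommRing R] {N Q : Type} [CommGroup N] [CommGroup Q]
variable {C : Type u} [CommRing C] [HopfAlgebra R C] {ι' : Type} {c : ι' → C}
variable {P : Type u} [CommRing P] [Algebra R P] {Y : Type u} [CommRing Y] [Algebra R Y]

variable (R) in
/-- every point is the kernel of a homomorphism to an algebraically closed field -/
lemma exists_geomPt (y : PrimeSpectrum Y) : ∃ (K : Type u) (_ : Field K) (_ : IsAlgClosed K) (_ : Algebra R K)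
    (f : Y →ₐ[R] K), RingHom.ker f = y.asIdeal := by
  let K := AlgebraicClosure y.asIdeal.ResidueField
  refine ⟨K, inferInstance, inferInstance, inferInstance, IsScalarTower.toAlgHom R Y K, ?_⟩
  have h : (IsScalarTower.toAlgHom R Y K : Y →+* K) =
    (algebraMap y.asIdeal.ResidueField K).comp (algebraMap Y y.asIdeal.ResidueField) := by
    ext x
    exact IsScalarTower.algebraMap_apply Y y.asIdeal.ResidueField K x
  have h2 : RingHom.ker (IsScalarTower.toAlgHom R Y K) =
      RingHom.ker ((IsScalarTower.toAlgHom R Y K : Y →+* K)) := rfl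
  rw [h2, h, ← RingHom.comap_ker,
    (RingHom.injective_iff_ker_eq_bot _).1 (algebraMap y.asIdeal.ResidueField K).injective,
    ← RingHom.ker_eq_comap_bot, Ideal.ker_algebraMap_residueField]

/-- The orbit map is smooth. -/
theorem smooth_orbit [Algebra.Smooth R C] [Algebra.FiniteType R P]
    {F₀ : WithConv (C →ₐ[R] MonoidAlgebra R Q ⊗[R] R)} (hF₀ : IsHom F₀)
    {U : WithConv (C →ₐ[R] MonoidAlgebra R Q ⊗[R] P)} (hU : IsHom U) (hs : IsSep U) (q : P →ₐ[R] C)
    (hq : pushG (T (MonoidAlgebra R Q) q) U = ob F₀ (gu R C)) : q.toRingHom.Smooth := by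
  let _ : Algebra P C := q.toRingHom.toAlgebra
  have : IsScalarTower R P C := IsScalarTower.of_algebraMap_eq fun r => (q.commutes r).symm
  have h1 : IsScalarTower.toAlgHom R P C = q := by
    ext x
    rfl
  have : Algebra.FormallySmooth P C := formallySmooth_orbit hF₀ hU hs (by rw [h1, hq])
  have : Algebra.FinitePresentation P C := Algebra.FinitePresentation.of_restrict_scalars_finitePresentation R P C
  exact (RingHom.smooth_def (f := q.toRingHom)).2 ⟨‹Algebra.FormallySmooth P C›, this⟩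

lemma isOpenMap_of_smooth {A B : Type u} [CommRing A] [CommRing B] {f : A →+* B} (hf : f.Smooth) :
    IsOpenMap (PrimeSpectrum.comap f) := by
  algebraize [f]
  have : Module.Flat A B := Algebra.Smooth.flat A B
  exact PrimeSpectrum.isOpenMap_comap_of_hasGoingDown_of_finitePresentation

lemma eq_one_of_forall {A : Type*} [CommRing A] {e : A} (he : IsIdempotentElem e)
    (h : ∀ p : PrimeSpectrum A, e ∉ p.asIdeal) : e = 1 := by
  have hu : IsUnit e := by
    by_contra hn
    obtain ⟨M, hM, hle⟩ := Ideal.exists_le_maximal _ (mt Ideal.span_singleton_eq_top.1 hn)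
    exact h ⟨M, hM.isPrime⟩ (hle (Ideal.mem_span_singleton_self e))
  exact (IsIdempotentElem.iff_eq_one_of_isUnit hu).1 he

/-- **The algebra of the subgroups conjugate to `T[n]`** (with a parametrisation by `D(Q)`): open and closed in the
algebra of all homomorphisms `D(Q) → G`. -/
theorem exists_clopen [Algebra.Smooth R C] [Finite Q] [Finite ι'] (hc : Algebra.adjoin R (Set.range c) = ⊤)
    {π : N →* Q}
    (hπφ : ∀ φ : N ≃* N, ∃ φ' : Q ≃* Q, φ'.toMonoidHom.comp π = π.comp φ.toMonoidHom)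
    {W : Finset N} (hπW : Set.InjOn π W) {F₀ : WithConv (C →ₐ[R] MonoidAlgebra R N ⊗[R] R)} (hF₀ : IsHom F₀)
    (hm : AMono F₀)
    (hW : ∀ (A : Type u) [CommRing A] [Algebra R A] (g : WithConv (C →ₐ[R] A)), SuppCl c (ob F₀ g) W)
    (H1 : ∀ (K : Type u) [Field K] [IsAlgClosed K] [Algebra R K]
      (F : WithConv (C →ₐ[R] MonoidAlgebra R N ⊗[R] K)), IsHom F → AMono F →
      ∃ (g : WithConv (C →ₐ[R] K)) (φ : N ≃* N), F = rg φ.toMonoidHom (ob F₀ g)) :
    ∃ (B : Type u) (_ : CommRing B) (_ : Algebra R B) (U : WithConv (C →ₐ[R] MonoidAlgebra R Q ⊗[R] B))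
      (q : (Q ≃* Q) → (B →ₐ[R] C)), Algebra.FiniteType R B ∧ IsHom U ∧ IsSep U ∧
      (∀ γ, pushG (T (MonoidAlgebra R Q) (q γ)) U = rg γ.toMonoidHom (rg π (ob F₀ (gu R C)))) ∧
      (∀ b : PrimeSpectrum B, ∃ γ p, PrimeSpectrum.comap (q γ).toRingHom p = b) ∧
      (∀ γ : Q ≃* Q, ∃ a : B →ₐ[R] B, pushG (T (MonoidAlgebra R Q) a) U = rg γ.toMonoidHom U) := by
  classical
  cases nonempty_fintype Q
  obtain ⟨P, _, _, U, hP, hU, hUs, hUu⟩ := exists_universal c hc (Finset.univ : Finset Q)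
  have hUn : IsUniv c Finset.univ U := ⟨hU, hUs, hUu⟩
  have hsep := hUn.isSep
  have clP : ∀ (A : Type u) [CommRing A] [Algebra R A] (F : WithConv (C →ₐ[R] MonoidAlgebra R Q ⊗[R] A)),
      IsHom F → ∃ g : P →ₐ[R] A, pushG (T (MonoidAlgebra R Q) g) U = F := fun A _ _ F hF =>
    (hUu A F hF (fun i n hn => absurd (Finset.mem_univ n) hn)).exists
  obtain ⟨Y, _, _, V, hY, hV, hVs, hVu⟩ := exists_universal c hc W
  have hVn : IsUniv c W V := ⟨hV, hVs, hVu⟩
  obtain ⟨s, hs, -⟩ := hVu C (ob F₀ (gu R C)) (isHom_ob hF₀ _) (hW C _)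
  choose r hr using fun γ : Q ≃* Q => clP Y (rg γ.toMonoidHom (rg π V)) (isHom_rg (isHom_rg hV _) _)
  have hrs : ∀ γ, Function.Surjective (r γ) := by
    intro γ
    refine surjective_of_rg hc (π := γ.toMonoidHom.comp π) ?_ hVn (r γ) (by rw [hr, rg_rg])
    intro a ha b hb hab
    exact hπW ha hb (γ.injective hab)
  let q : (Q ≃* Q) → (P →ₐ[R] C) := fun γ => s.comp (r γ)
  have hq : ∀ γ, pushG (T (MonoidAlgebra R Q) (q γ)) U = rg γ.toMonoidHom (rg π (ob F₀ (gu R C))) := by
    intro γ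
    rw [← T_comp, ← pushG_comp, hr, ← rg_T, ← rg_T, hs]
  have hqg : ∀ γ (A : Type u) [CommRing A] [Algebra R A] (g : WithConv (C →ₐ[R] A)),
      pushG (T (MonoidAlgebra R Q) (g.ofConv.comp (q γ))) U = rg γ.toMonoidHom (rg π (ob F₀ g)) := by
    intro γ A _ _ g
    rw [← T_comp, ← pushG_comp, hq, ← rg_T, ← rg_T, T_ob, pushG_gu]
  -- the image
  have hbc : ∀ (A : Type u) [CommRing A] [Algebra R A] (g : WithConv (C →ₐ[R] A)), AMono (ob F₀ g) :=
    fun A _ _ g => Locus.AMono.cj (Locus.AMono.map hm _) g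
  have key : (⋃ γ, Set.range (PrimeSpectrum.comap (q γ).toRingHom)) =
      ⋃ γ, PrimeSpectrum.comap (r γ).toRingHom '' (Locus.mono c V) := by
    apply Set.Subset.antisymm
    · refine Set.iUnion_subset fun γ => ?_
      rintro _ ⟨p, rfl⟩
      refine Set.mem_iUnion.2 ⟨γ, PrimeSpectrum.comap s.toRingHom p, ?_, rfl⟩
      obtain ⟨K, _, _, _, f, hf⟩ := exists_geomPt R p
      rw [Locus.mem_mono_iff hc hV (f.comp s)]
      · rw [← T_comp, ← pushG_comp, hs, T_ob]
        exact hbc K _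
      · show Ideal.comap s.toRingHom p.asIdeal = _
        rw [← hf]
        rfl
    · refine Set.iUnion_subset fun γ => ?_
      rintro _ ⟨y, hy, rfl⟩
      obtain ⟨K, _, _, _, f, hf⟩ := exists_geomPt R y
      rw [Locus.mem_mono_iff hc hV f y hf.symm] at hy
      obtain ⟨g, φ, hg⟩ := H1 K _ (hV.map f) hy
      obtain ⟨φ', hφ'⟩ := hπφ φ
      have h1 : f.comp (r γ) = g.ofConv.comp (q (φ'.trans γ)) := by
        apply hsep
        rw [hqg, ← T_comp, ← pushG_comp, hr, ← rg_T, ← rg_T, hg, rg_rg, rg_rg, rg_rg]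
        congr 1
        have : (φ'.trans γ).toMonoidHom = γ.toMonoidHom.comp φ'.toMonoidHom := rfl
        rw [this, MonoidHom.comp_assoc, MonoidHom.comp_assoc, hφ']
      refine Set.mem_iUnion.2 ⟨φ'.trans γ, ⟨RingHom.ker g.ofConv, RingHom.ker_isPrime _⟩, ?_⟩
      apply PrimeSpectrum.ext
      show Ideal.comap (q (φ'.trans γ)).toRingHom (RingHom.ker g.ofConv) =
        Ideal.comap (r γ).toRingHom y.asIdeal
      rw [← hf]
      have h2 : RingHom.ker (f.comp (r γ)) = RingHom.ker (g.ofConv.comp (q (φ'.trans γ))) := by rw [h1]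
      exact h2.symm
  have hclosed : IsClosed (⋃ γ, Set.range (PrimeSpectrum.comap (q γ).toRingHom)) := by
    rw [key]
    refine isClosed_iUnion_of_finite fun γ => ?_
    exact (PrimeSpectrum.isClosedEmbedding_comap_of_surjective Y (r γ).toRingHom (hrs γ)).isClosedMap _
      (Locus.isClosed_mono hc hV)
  have hopen : IsOpen (⋃ γ, Set.range (PrimeSpectrum.comap (q γ).toRingHom)) := by
    refine isOpen_iUnion fun γ => ?_
    refine (isOpenMap_of_smooth (smooth_orbit (F₀ := rg γ.toMonoidHom (rg π F₀)) (isHom_rg (isHom_rg hF₀ _) _)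
      hU hsep (q γ) ?_)).isOpen_range
    rw [hq, rg_ob, rg_ob]
  obtain ⟨e, he, heq⟩ := PrimeSpectrum.isClopen_iff.1 ⟨hclosed, hopen⟩
  have hmem : ∀ p : PrimeSpectrum P, e ∉ p.asIdeal ↔ ∃ γ x, PrimeSpectrum.comap (q γ).toRingHom x = p := by
    intro p
    have : p ∈ (PrimeSpectrum.basicOpen e : Set (PrimeSpectrum P)) ↔ e ∉ p.asIdeal := Iff.rfl
    rw [← this, ← heq]
    simp only [Set.mem_iUnion, Set.mem_range]
  let I : Ideal P := Ideal.span {1 - e}
  let m : P →ₐ[R] P ⧸ I := Ideal.Quotient.mkₐ R I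
  have hmsurj : Function.Surjective m := Ideal.Quotient.mk_surjective
  have hme : m e = 1 := by
    have h0 : m (1 - e) = 0 := Ideal.Quotient.eq_zero_iff_mem.2 (Ideal.mem_span_singleton_self _)
    rw [map_sub, map_one, sub_eq_zero] at h0
    exact h0.symm
  have lift : ∀ (A : Type u) [CommRing A] [Algebra R A] (f : P →ₐ[R] A),
      (∀ p : PrimeSpectrum A, ∃ γ x, PrimeSpectrum.comap (q γ).toRingHom x = PrimeSpectrum.comap f.toRingHom p) →
      ∃ f' : (P ⧸ I) →ₐ[R] A, f'.comp m = f := by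
    intro A _ _ f hf
    have h1 : f e = 1 := by
      apply eq_one_of_forall (he.map f)
      intro p
      exact (hmem _).2 (hf p)
    refine ⟨Ideal.Quotient.liftₐ I f ?_, ?_⟩
    · intro a ha
      obtain ⟨b, rfl⟩ := Ideal.mem_span_singleton.1 ha
      rw [map_mul, map_sub, map_one, h1, sub_self, zero_mul]
    · ext x
      rfl
  have hptB : ∀ b : PrimeSpectrum (P ⧸ I), ∃ γ x, PrimeSpectrum.comap (q γ).toRingHom x =
      PrimeSpectrum.comap m.toRingHom b := by
    intro b
    rw [← hmem]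
    intro h0
    apply b.isPrime.ne_top
    rw [Ideal.eq_top_iff_one, ← hme]
    exact h0
  choose q' hq' using fun γ => lift C (q γ) (fun p => ⟨γ, p, rfl⟩)
  refine ⟨P ⧸ I, inferInstance, inferInstance, pushG (T (MonoidAlgebra R Q) m) U, q', inferInstance, hU.map m,
    ?_, ?_, ?_, ?_⟩
  · intro A _ _ g g' h
    rw [pushG_comp, pushG_comp, T_comp, T_comp] at h
    have h1 := hsep A _ _ h
    apply AlgHom.ext
    intro x
    obtain ⟨x, rfl⟩ := hmsurj x
    exact AlgHom.congr_fun h1 x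
  · intro γ
    rw [pushG_comp, T_comp, hq', hq]
  · intro b
    obtain ⟨γ, x, hx⟩ := hptB b
    refine ⟨γ, x, ?_⟩
    apply PrimeSpectrum.comap_injective_of_surjective m.toRingHom hmsurj
    rw [← hx, ← PrimeSpectrum.comap_comp_apply]
    have : (q' γ).toRingHom.comp m.toRingHom = (q γ).toRingHom := by
      rw [← hq' γ]
      rfl
    rw [this]
  · intro γ
    obtain ⟨a, ha⟩ := clP P (rg γ.toMonoidHom U) (isHom_rg hU _)
    obtain ⟨a', ha'⟩ := lift (P ⧸ I) (m.comp a) (by
      intro b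
      obtain ⟨δ, x, hx⟩ := hptB b
      refine ⟨δ.trans γ, x, ?_⟩
      have h1 : (q δ).comp a = q (δ.trans γ) := by
        apply hsep
        rw [hq, ← T_comp, ← pushG_comp, ha, ← rg_T, hq, rg_rg, rg_rg, rg_rg]
        rfl
      rw [← h1]
      have h2 : PrimeSpectrum.comap (m.comp a).toRingHom b =
        PrimeSpectrum.comap a.toRingHom (PrimeSpectrum.comap m.toRingHom b) := rfl
      rw [h2, ← hx]
      rfl)
    refine ⟨a', ?_⟩
    rw [pushG_comp, T_comp, ha', ← T_comp, ← pushG_comp, ha, rg_T]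

end

end Groth.Agent.Sga3.H812.Orb
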