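import Groth.Agent.Sga3.H812.Orb
import Groth.Agent.Sga3.H812.Gal

/-!
# The quotient by the automorphisms of `D(Q)`
-/

set_option autoImplicit false

open TensorProduct Coalgebra Bialgebra WithConv
open Groth.Agent.Sga3B.HaarDef Groth.Agent.Sga3B.TorusWt Groth.Agent.Sga3B.TorusLie
open Groth.Agent.Sga3B.TorusUniv Groth.Agent.Sga3.H812.Res Groth.Agent.Sga3.H812.Supp
open Groth.Agent.Sga3.H812.Univ

namespace Groth.Agent.Sga3.H812.Quo

noncomputable section

universe u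

variable {R : Type u} [CommRing R] {N Q : Type} [CommGroup N] [CommGroup Q]
variable {C : Type u} [CommRing C] [HopfAlgebra R C] {ι' : Type} {c : ι' → C}

/-- `R`-linear action of `MulAut Q` from algebra maps `a γ` with `a γ ∘ a δ = a (δ γ)`. -/
@[instance_reducible] def actOf {B : Type u} [CommRing B] [Algebra R B] (a : (Q ≃* Q) → (B →ₐ[R] B)) (h1 : a (MulEquiv.refl Q) = AlgHom.id R B)
    (h2 : ∀ γ δ : Q ≃* Q, (a γ).comp (a δ) = a (γ.trans δ)) : MulSemiringAction (MulAut Q) B where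
  smul γ b := a (γ⁻¹ : MulAut Q) b
  one_smul b := by
    show a ((1 : MulAut Q)⁻¹) b = b
    rw [inv_one]
    exact AlgHom.congr_fun h1 b
  mul_smul γ δ b := by
    show a ((γ * δ)⁻¹) b = a (γ⁻¹) (a (δ⁻¹) b)
    rw [← AlgHom.comp_apply, h2, mul_inv_rev]
    rfl
  smul_zero γ := map_zero _
  smul_add γ x y := map_add _ x y
  smul_one γ := map_one _
  smul_mul γ x y := map_mul _ x y

/-- **The quotient.** -/
theorem exists_quot [Algebra.Smooth R C] [Finite Q] [Finite ι'] (hc : Algebra.adjoin R (Set.range c) = ⊤)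
    {π : N →* Q} (hπs : Function.Surjective π)
    (hπφ : ∀ φ : N ≃* N, ∃ φ' : Q ≃* Q, φ'.toMonoidHom.comp π = π.comp φ.toMonoidHom)
    {W : Finset N} (hπW : Set.InjOn π W) {F₀ : WithConv (C →ₐ[R] MonoidAlgebra R N ⊗[R] R)} (hF₀ : IsHom F₀)
    (hm : AMono F₀)
    (hW : ∀ (A : Type u) [CommRing A] [Algebra R A] (g : WithConv (C →ₐ[R] A)), SuppCl c (ob F₀ g) W)
    (H1 : ∀ (K : Type u) [Field K] [IsAlgClosed K] [Algebra R K]
      (F : WithConv (C →ₐ[R] MonoidAlgebra R N ⊗[R] K)), IsHom F → AMono F →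
      ∃ (g : WithConv (C →ₐ[R] K)) (φ : N ≃* N), F = rg φ.toMonoidHom (ob F₀ g)) :
    ∃ (B₀ : Type u) (_ : CommRing B₀) (_ : Algebra R B₀) (q : B₀ →ₐ[R] C), q.toRingHom.Smooth ∧
      Function.Surjective (PrimeSpectrum.comap q.toRingHom) ∧
      (∀ (A : Type u) [CommRing A] [Algebra R A] (g h : WithConv (C →ₐ[R] A)),
        g.ofConv.comp q = h.ofConv.comp q → ∀ p : PrimeSpectrum A, ∃ a : A, a ∉ p.asIdeal ∧ ∃ γ : Q ≃* Q,
          ∀ (A' : Type u) [CommRing A'] [Algebra R A'] (l : A →ₐ[R] A'), IsUnit (l a) →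
            rg π (ob F₀ (pushG l g)) = rg γ.toMonoidHom (rg π (ob F₀ (pushG l h)))) ∧
      (∀ (A : Type u) [CommRing A] [Algebra R A] (g h : WithConv (C →ₐ[R] A)) (γ : Q ≃* Q),
        rg π (ob F₀ g) = rg γ.toMonoidHom (rg π (ob F₀ h)) → g.ofConv.comp q = h.ofConv.comp q) := by
  classical
  obtain ⟨B, _, _, U, q, hB, hU, hsep, hq, hpt, hst⟩ := Orb.exists_clopen hc hπφ hπW hF₀ hm hW H1
  choose a ha using hst
  have hqg : ∀ γ (A : Type u) [CommRing A] [Algebra R A] (g : WithConv (C →ₐ[R] A)),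
      pushG (T (MonoidAlgebra R Q) (g.ofConv.comp (q γ))) U = rg γ.toMonoidHom (rg π (ob F₀ g)) := by
    intro γ A _ _ g
    rw [← T_comp, ← pushG_comp, hq, ← rg_T, ← rg_T, T_ob, pushG_gu]
  have hrefl : ∀ {X : Type u} [CommRing X] [Algebra R X] (F : WithConv (C →ₐ[R] MonoidAlgebra R Q ⊗[R] X)),
      rg (MulEquiv.refl Q).toMonoidHom F = F := fun F => rg_id F
  have ha1 : a (MulEquiv.refl Q) = AlgHom.id R B := by
    apply hsep
    rw [ha, pushG_T_id, hrefl]
  have ha2 : ∀ γ δ : Q ≃* Q, (a γ).comp (a δ) = a (γ.trans δ) := by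
    intro γ δ
    apply hsep
    rw [← T_comp, ← pushG_comp, ha δ, ← rg_T, ha γ, ha, rg_rg]
    rfl
  let _ : MulSemiringAction (MulAut Q) B := actOf a ha1 ha2
  have hsmul : ∀ (γ : MulAut Q) (b : B), γ • b = a (γ⁻¹ : MulAut Q) b := fun _ _ => rfl
  have : SMulCommClass (MulAut Q) R B := ⟨fun γ r b => by rw [hsmul, hsmul, map_smul]⟩
  have : Finite (MulAut Q) :=
    Finite.of_injective (fun f : Q ≃* Q => (f : Q → Q)) DFunLike.coe_injective
  cases nonempty_fintype (MulAut Q)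
  have hfree : ∀ γ : MulAut Q, γ ≠ 1 → ∀ M : Ideal B, M.IsMaximal → ∃ b, γ • b - b ∉ M := by
    intro γ hγ M hM
    by_contra hcon
    push Not at hcon
    apply hγ
    obtain ⟨δ, p, hp⟩ := hpt ⟨M, hM.isPrime⟩
    obtain ⟨K, _, _, _, f, hf⟩ := Orb.exists_geomPt R p
    have hx : ∀ b, f (q δ (γ • b)) = f (q δ b) := by
      intro b
      have h1 : γ • b - b ∈ (PrimeSpectrum.comap (q δ).toRingHom p).asIdeal := by
        rw [hp]
        exact hcon b
      have h2 : (q δ) (γ • b - b) ∈ p.asIdeal := h1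
      rw [← hf, RingHom.mem_ker, map_sub, map_sub, sub_eq_zero] at h2
      exact h2
    have h3 : (f.comp (q δ)).comp (a (γ⁻¹ : MulAut Q)) = f.comp (q δ) := AlgHom.ext hx
    have h4 : rg (MulEquiv.toMonoidHom (γ⁻¹ : MulAut Q)) (pushG (T (MonoidAlgebra R Q) (f.comp (q δ))) U) =
        rg (MulEquiv.refl Q).toMonoidHom (pushG (T (MonoidAlgebra R Q) (f.comp (q δ))) U) := by
      rw [hrefl, rg_T, ← ha, pushG_comp, T_comp, h3]
    have h5 : pushG (T (MonoidAlgebra R Q) (f.comp (q δ))) U = rg δ.toMonoidHom (rg π (ob F₀ (toConv f))) :=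
      hqg δ K (toConv f)
    have hmono : AMono (pushG (T (MonoidAlgebra R Q) (f.comp (q δ))) U) := by
      rw [h5]
      exact Locus.AMono.rg (Locus.AMono.rg (Locus.AMono.cj (Locus.AMono.map hm _) _) hπs) δ.surjective
    have h6 := Locus.eq_of_rg_eq (hU.map _) (closure_eq_top_of_amono hmono) h4
    have h7 : (γ⁻¹ : MulAut Q) = 1 := h6
    exact inv_eq_one.1 h7
  let B₀ : Subalgebra R B := FixedPoints.subalgebra R B (MulAut Q)
  have hfix : ∀ (γ : Q ≃* Q) (b : B₀), a γ (b : B) = b := by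
    intro γ b
    have h1 := b.2 (γ⁻¹ : MulAut Q)
    have h2 : ((γ⁻¹ : MulAut Q) • (b : B)) = a (((γ⁻¹ : MulAut Q))⁻¹ : MulAut Q) b := rfl
    rw [h2, inv_inv] at h1
    exact h1
  have hq1 : ∀ γ, (q (MulEquiv.refl Q)).comp (a γ) = q γ := by
    intro γ
    apply hsep
    rw [← T_comp, ← pushG_comp, ha, ← rg_T, hq, hq, hrefl]
  have hinj : Function.Injective (algebraMap B₀ B) := Subtype.val_injective
  have hqx : ∀ (A : Type u) [CommRing A] [Algebra R A] (g : WithConv (C →ₐ[R] A)),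
      pushG (T (MonoidAlgebra R Q) (g.ofConv.comp (q (MulEquiv.refl Q)))) U = rg π (ob F₀ g) := by
    intro A _ _ g
    rw [hqg, hrefl]
  refine ⟨B₀, inferInstance, inferInstance, (q (MulEquiv.refl Q)).comp B₀.val, ?_, ?_, ?_, ?_⟩
  · have h1 : (q (MulEquiv.refl Q)).toRingHom.Smooth := by
      refine Orb.smooth_orbit (F₀ := rg π F₀) (isHom_rg hF₀ _) hU hsep _ ?_
      rw [hq, hrefl, rg_ob]
    have h2 : (algebraMap B₀ B).Smooth := by
      have : Algebra.Etale B₀ B := Gal.etale R hfree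
      rw [RingHom.smooth_algebraMap]
      infer_instance
    exact h2.comp h1
  · intro b₀
    obtain ⟨b, rfl⟩ := Gal.surjective_comap (B := B) (G := MulAut Q) R b₀
    obtain ⟨γ, p, rfl⟩ := hpt b
    refine ⟨p, ?_⟩
    have : (q γ).toRingHom.comp (algebraMap B₀ B) = ((q (MulEquiv.refl Q)).comp B₀.val).toRingHom := by
      ext b
      rw [← hq1 γ]
      show q (MulEquiv.refl Q) (a γ b) = q (MulEquiv.refl Q) b
      rw [hfix]
    rw [← this]
    rfl
  · intro A _ _ g h hgh p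
    obtain ⟨e, he1, he2⟩ := Gal.exists_idem (A := B₀) (B := B) (G := MulAut Q) hinj hfree
      (g.ofConv.comp (q (MulEquiv.refl Q))).toRingHom (h.ofConv.comp (q (MulEquiv.refl Q))).toRingHom
      (by
        ext b
        exact AlgHom.congr_fun hgh b)
    obtain ⟨γ, hγ⟩ := Gal.exists_notMem he1 p.asIdeal
    refine ⟨e γ, hγ, (γ⁻¹ : MulAut Q), fun A' _ _ l hl => ?_⟩
    rw [← hqx, ← hqx, ← pushG_gu (R := R) (C := C) (pushG l g)]
    have h1 : (pushG l g).ofConv.comp (q (MulEquiv.refl Q)) =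
        ((pushG l h).ofConv.comp (q (MulEquiv.refl Q))).comp (a (γ⁻¹ : MulAut Q)) := by
      apply AlgHom.ext
      intro b
      have h2 := congrArg l (he2 γ b)
      rw [map_mul, map_mul] at h2
      exact hl.mul_left_cancel h2
    rw [rg_T, ← ha, pushG_comp, T_comp, ← h1]
    rfl
  · intro A _ _ g h γ hgh
    have h1 : g.ofConv.comp (q (MulEquiv.refl Q)) = (h.ofConv.comp (q (MulEquiv.refl Q))).comp (a γ) := by
      apply hsep
      rw [hqx, hgh, ← hqx, rg_T, ← ha, pushG_comp, T_comp]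
    apply AlgHom.ext
    intro b
    have h2 := AlgHom.congr_fun h1 (b : B)
    rw [AlgHom.comp_apply _ (a γ), hfix] at h2
    exact h2

end

end Groth.Agent.Sga3.H812.Quo
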