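import Groth.Agent.Sga3B.TorusLie

/-!
# Restriction of homomorphisms from a diagonalisable group, and conjugates

`π : N →* Q` a homomorphism of commutative groups, `D(Q) → D(N)` the dual homomorphism. For a homomorphism
`F : C → R[N] ⊗ X` (that is `D(N)_X → G_X`), `rg π F : C → R[Q] ⊗ X` is the restriction along `D(Q) → D(N)`, and
`cj g F` is the conjugate `g F g⁻¹` by a point `g ∈ G(X)`.
-/

set_option autoImplicit false

open TensorProduct Coalgebra Bialgebra WithConv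
open Groth.Agent.Sga3B.HaarDef Groth.Agent.Sga3B.TorusWt Groth.Agent.Sga3B.TorusLie

namespace Groth.Agent.Sga3.H812.Res

noncomputable section

variable {R : Type*} [CommRing R] {N Q Q' : Type*} [CommGroup N] [CommGroup Q] [CommGroup Q']
variable {C : Type*} [CommRing C] [HopfAlgebra R C]
variable {X Y Z : Type*} [CommRing X] [Algebra R X] [CommRing Y] [Algebra R Y] [CommRing Z] [Algebra R Z]

variable (R) in
/-- the map `R[N] ⊗ X → R[Q] ⊗ X` induced by `π : N →* Q` -/
def rs (π : N →* Q) (X : Type*) [CommRing X] [Algebra R X] :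
    MonoidAlgebra R N ⊗[R] X →ₐ[R] MonoidAlgebra R Q ⊗[R] X :=
  Algebra.TensorProduct.map (MonoidAlgebra.mapDomainAlgHom R R π) (AlgHom.id R X)

@[simp] lemma rs_single (π : N →* Q) (n : N) (r : R) (x : X) :
    rs R π X (MonoidAlgebra.single n r ⊗ₜ[R] x) = MonoidAlgebra.single (π n) r ⊗ₜ[R] x := by
  simp [rs]

lemma algHom_ext_single {A : Type*} [CommRing A] [Algebra R A] {f g : MonoidAlgebra R N ⊗[R] X →ₐ[R] A}
    (h : ∀ n x, f (MonoidAlgebra.single n (1 : R) ⊗ₜ[R] x) = g (MonoidAlgebra.single n (1 : R) ⊗ₜ[R] x)) :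
    f = g := by
  apply AlgHom.ext
  intro z
  induction z using TensorProduct.induction_on with
  | zero => simp
  | tmul d x =>
    induction d using MonoidAlgebra.induction_linear with
    | zero => simp
    | add a b ha hb => rw [TensorProduct.add_tmul, map_add, map_add, ha, hb]
    | single n r =>
      have : (MonoidAlgebra.single n r : MonoidAlgebra R N) = r • MonoidAlgebra.single n (1 : R) := by
        rw [MonoidAlgebra.smul_single, smul_eq_mul, mul_one]
      rw [this, ← TensorProduct.smul_tmul', map_smul, map_smul, h]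
  | add a b ha hb => rw [map_add, map_add, ha, hb]

lemma rs_comp_ι (π : N →* Q) :
    (rs R π X).comp (ι R (MonoidAlgebra R N) X) = ι R (MonoidAlgebra R Q) X := by
  apply AlgHom.ext
  intro x
  simp only [AlgHom.comp_apply, ι_apply, MonoidAlgebra.one_def, rs_single, map_one]

lemma rs_comp_T (π : N →* Q) (h : X →ₐ[R] Y) :
    (rs R π Y).comp (T (MonoidAlgebra R N) h) = (T (MonoidAlgebra R Q) h).comp (rs R π X) := by
  apply algHom_ext_single
  intro n x
  simp

lemma rs_comp_rs (π : N →* Q) (π' : Q →* Q') : (rs R π' X).comp (rs R π X) = rs R (π'.comp π) X := by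
  apply algHom_ext_single
  intro n x
  simp

lemma rs_id : rs R (MonoidHom.id N) X = AlgHom.id R _ := by
  apply algHom_ext_single
  intro n x
  simp

lemma T_id {D : Type*} [CommRing D] [Bialgebra R D] : T D (AlgHom.id R X) = AlgHom.id R (D ⊗[R] X) := by
  ext <;> simp

lemma pushG_T_id {D : Type*} [CommRing D] [Bialgebra R D] (F : WithConv (C →ₐ[R] D ⊗[R] X)) :
    pushG (T D (AlgHom.id R X)) F = F := by
  rw [T_id]
  rfl

lemma rs_comp_δ (π : N →* Q) :
    ((T (MonoidAlgebra R Q) (rs R π X)).comp (rs R π (MonoidAlgebra R N ⊗[R] X))).comp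
      (δ R (MonoidAlgebra R N) X) = (δ R (MonoidAlgebra R Q) X).comp (rs R π X) := by
  apply algHom_ext_single
  intro n x
  simp only [AlgHom.comp_apply, rs_single, δ_tmul, MonoidAlgebra.comul_single, CommSemiring.comul_apply,
    TensorProduct.map_tmul, MonoidAlgebra.lsingle_apply, Algebra.TensorProduct.assoc_tmul, T_tmul]

/-- restriction of a homomorphism along `D(Q) → D(N)` -/
def rg (π : N →* Q) (F : WithConv (C →ₐ[R] MonoidAlgebra R N ⊗[R] X)) :
    WithConv (C →ₐ[R] MonoidAlgebra R Q ⊗[R] X) := pushG (rs R π X) F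

lemma rg_apply (π : N →* Q) (F : WithConv (C →ₐ[R] MonoidAlgebra R N ⊗[R] X)) (c : C) :
    rg π F c = rs R π X (F c) := rfl

lemma rg_mul (π : N →* Q) (F F' : WithConv (C →ₐ[R] MonoidAlgebra R N ⊗[R] X)) :
    rg π (F * F') = rg π F * rg π F' := map_mul _ _ _

lemma rg_inv (π : N →* Q) (F : WithConv (C →ₐ[R] MonoidAlgebra R N ⊗[R] X)) :
    rg π F⁻¹ = (rg π F)⁻¹ := map_inv (pushG (rs R π X)) F

lemma rg_T (π : N →* Q) (h : X →ₐ[R] Y) (F : WithConv (C →ₐ[R] MonoidAlgebra R N ⊗[R] X)) :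
    rg π (pushG (T (MonoidAlgebra R N) h) F) = pushG (T (MonoidAlgebra R Q) h) (rg π F) := by
  rw [rg, rg, pushG_comp, pushG_comp, rs_comp_T]

lemma rg_ι (π : N →* Q) (g : WithConv (C →ₐ[R] X)) :
    rg π (pushG (ι R (MonoidAlgebra R N) X) g) = pushG (ι R (MonoidAlgebra R Q) X) g := by
  rw [rg, pushG_comp, rs_comp_ι]

lemma rg_rg (π : N →* Q) (π' : Q →* Q') (F : WithConv (C →ₐ[R] MonoidAlgebra R N ⊗[R] X)) :
    rg π' (rg π F) = rg (π'.comp π) F := by
  rw [rg, rg, rg, pushG_comp, rs_comp_rs]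

lemma rg_id (F : WithConv (C →ₐ[R] MonoidAlgebra R N ⊗[R] X)) : rg (MonoidHom.id N) F = F := by
  rw [rg, rs_id]
  rfl

lemma isHom_rg {F : WithConv (C →ₐ[R] MonoidAlgebra R N ⊗[R] X)} (hF : IsHom F) (π : N →* Q) :
    IsHom (rg π F) := by
  have h := congrArg (pushG ((T (MonoidAlgebra R Q) (rs R π X)).comp (rs R π (MonoidAlgebra R N ⊗[R] X)))) hF
  rw [map_mul] at h
  unfold IsHom rg
  simp only [pushG_comp] at h ⊢
  rw [rs_comp_δ] at h
  have e1 : ((T (MonoidAlgebra R Q) (rs R π X)).comp (rs R π (MonoidAlgebra R N ⊗[R] X))).comp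
      (T (MonoidAlgebra R N) (ι R (MonoidAlgebra R N) X)) =
      (T (MonoidAlgebra R Q) (ι R (MonoidAlgebra R Q) X)).comp (rs R π X) := by
    rw [AlgHom.comp_assoc, rs_comp_T, ← AlgHom.comp_assoc, T_comp, rs_comp_ι]
  have e2 : ((T (MonoidAlgebra R Q) (rs R π X)).comp (rs R π (MonoidAlgebra R N ⊗[R] X))).comp
      (ι R (MonoidAlgebra R N) (MonoidAlgebra R N ⊗[R] X)) =
      (ι R (MonoidAlgebra R Q) (MonoidAlgebra R Q ⊗[R] X)).comp (rs R π X) := by
    rw [AlgHom.comp_assoc, rs_comp_ι, T_comp_ι]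
  rw [e1, e2] at h
  exact h

/-! ### Coefficients of a restriction -/

lemma coef_rs [DecidableEq Q] (π : N →* Q) (z : MonoidAlgebra R N ⊗[R] X) {s : Finset N}
    (hs : ∀ n, n ∉ s → coef R n X z = 0) (q : Q) :
    coef R q X (rs R π X z) = ∑ n ∈ s with π n = q, coef R n X z := by
  classical
  conv_lhs => rw [eq_sum_coef z hs]
  rw [map_sum, map_sum, Finset.sum_filter]
  refine Finset.sum_congr rfl fun n _ => ?_
  rw [rs_single, coef_single, one_smul]

lemma coef_rs_of_injOn (π : N →* Q) (z : MonoidAlgebra R N ⊗[R] X) {W : Finset N}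
    (hs : ∀ n, n ∉ W → coef R n X z = 0) (hπ : Set.InjOn π W) {n : N} (hn : n ∈ W) :
    coef R (π n) X (rs R π X z) = coef R n X z := by
  classical
  rw [coef_rs π z hs]
  have : (W.filter fun m => π m = π n) = {n} := by
    ext m
    simp only [Finset.mem_filter, Finset.mem_singleton]
    constructor
    · rintro ⟨h1, h2⟩
      exact hπ h1 hn h2
    · rintro rfl
      exact ⟨hn, rfl⟩
  rw [this, Finset.sum_singleton]

lemma coef_rs_of_notMem (π : N →* Q) (z : MonoidAlgebra R N ⊗[R] X) {W : Finset N}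
    (hs : ∀ n, n ∉ W → coef R n X z = 0) {q : Q} (hq : ∀ n ∈ W, π n ≠ q) :
    coef R q X (rs R π X z) = 0 := by
  classical
  rw [coef_rs π z hs, Finset.filter_eq_empty_iff.2 (fun n hn => hq n hn), Finset.sum_empty]

lemma coef_rs_equiv (φ : N ≃* Q) (z : MonoidAlgebra R N ⊗[R] X) (n : N) :
    coef R (φ n) X (rs R φ.toMonoidHom X z) = coef R n X z := by
  classical
  obtain ⟨s, hs, -⟩ := exists_finset_coef z
  have hs' : ∀ m, m ∉ insert n s → coef R m X z = 0 := fun m hm =>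
    hs m fun h => hm (Finset.mem_insert_of_mem h)
  exact coef_rs_of_injOn φ.toMonoidHom z hs' φ.injective.injOn (Finset.mem_insert_self n s)

lemma cf_rg_equiv (φ : N ≃* Q) (F : WithConv (C →ₐ[R] MonoidAlgebra R N ⊗[R] X)) (n : N) :
    cf (rg φ.toMonoidHom F) (φ n) = cf F n := by
  apply conv_ext
  intro c
  exact coef_rs_equiv φ (F c) n

/-! ### Conjugates -/

/-- the conjugate `g F g⁻¹` of the homomorphism `F` by the point `g` -/
def cj (g : WithConv (C →ₐ[R] X)) (F : WithConv (C →ₐ[R] MonoidAlgebra R N ⊗[R] X)) :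
    WithConv (C →ₐ[R] MonoidAlgebra R N ⊗[R] X) :=
  pushG (ι R (MonoidAlgebra R N) X) g * F * (pushG (ι R (MonoidAlgebra R N) X) g)⁻¹

lemma cj_one (F : WithConv (C →ₐ[R] MonoidAlgebra R N ⊗[R] X)) : cj 1 F = F := by
  rw [cj, map_one, one_mul, inv_one, mul_one]

lemma cj_mul (g h : WithConv (C →ₐ[R] X)) (F : WithConv (C →ₐ[R] MonoidAlgebra R N ⊗[R] X)) :
    cj (g * h) F = cj g (cj h F) := by
  rw [cj, cj, cj, map_mul, mul_inv_rev]
  simp only [mul_assoc]

lemma cj_inv_cj (g : WithConv (C →ₐ[R] X)) (F : WithConv (C →ₐ[R] MonoidAlgebra R N ⊗[R] X)) :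
    cj g⁻¹ (cj g F) = F := by
  rw [← cj_mul, inv_mul_cancel, cj_one]

lemma cj_cj_inv (g : WithConv (C →ₐ[R] X)) (F : WithConv (C →ₐ[R] MonoidAlgebra R N ⊗[R] X)) :
    cj g (cj g⁻¹ F) = F := by
  rw [← cj_mul, mul_inv_cancel, cj_one]

lemma cj_injective (g : WithConv (C →ₐ[R] X)) :
    Function.Injective (cj g : WithConv (C →ₐ[R] MonoidAlgebra R N ⊗[R] X) → _) := by
  intro F F' h
  rw [← cj_inv_cj g F, ← cj_inv_cj g F']
  exact congrArg (cj g⁻¹) h

lemma cj_T (g : WithConv (C →ₐ[R] X)) (F : WithConv (C →ₐ[R] MonoidAlgebra R N ⊗[R] X)) (h : X →ₐ[R] Y) :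
    pushG (T (MonoidAlgebra R N) h) (cj g F) = cj (pushG h g) (pushG (T (MonoidAlgebra R N) h) F) := by
  rw [cj, cj, map_mul, map_mul, map_inv, pushG_comp, T_comp_ι, ← pushG_comp]

lemma rg_cj (π : N →* Q) (g : WithConv (C →ₐ[R] X)) (F : WithConv (C →ₐ[R] MonoidAlgebra R N ⊗[R] X)) :
    rg π (cj g F) = cj g (rg π F) := by
  rw [cj, cj, rg_mul, rg_mul, rg_inv, rg_ι]

lemma conj_key {G : Type*} [Group G] (a b c : G) : a * b * a⁻¹ * (a * c * a⁻¹) = a * (b * c) * a⁻¹ := by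
  group

lemma isHom_cj {F : WithConv (C →ₐ[R] MonoidAlgebra R N ⊗[R] X)} (hF : IsHom F) (g : WithConv (C →ₐ[R] X)) :
    IsHom (cj g F) := by
  unfold IsHom at hF ⊢
  have e1 : pushG (T (MonoidAlgebra R N) (ι R (MonoidAlgebra R N) X)) (pushG (ι R (MonoidAlgebra R N) X) g) =
      pushG (ι R (MonoidAlgebra R N) (MonoidAlgebra R N ⊗[R] X)) (pushG (ι R (MonoidAlgebra R N) X) g) := by
    rw [pushG_comp, pushG_comp, T_comp_ι]
  have e2 : pushG (δ R (MonoidAlgebra R N) X) (pushG (ι R (MonoidAlgebra R N) X) g) =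
      pushG (ι R (MonoidAlgebra R N) (MonoidAlgebra R N ⊗[R] X)) (pushG (ι R (MonoidAlgebra R N) X) g) := by
    rw [pushG_comp, pushG_comp, δ_comp_ι]
  rw [cj, map_mul, map_mul, map_mul, map_mul, map_mul, map_mul, map_inv, map_inv, map_inv, e1, e2, ← hF]
  exact conj_key _ _ _

end

end Groth.Agent.Sga3.H812.Res
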