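import Groth.Agent.Sga3.H812.Dict
import Groth.Agent.Sga3.H665.TorBcNA

/-!
# The quotient of a smooth affine group over a ring by the normaliser of a split maximal torus
-/

set_option autoImplicit false

open CategoryTheory MonoidalCategory CartesianMonoidalCategory AlgebraicGeometry Limits Opposite
open TensorProduct WithConv
open scoped MonObj
open Groth.Agent.Sga3B.HaarDef Groth.Agent.Sga3B.AffTest Groth.Agent.Sga3B.PtData Groth.Agent.Sga3B.TorusLie
open Groth.Agent.Sga3B.TorusWt Groth.Agent.Sga3B.PtMor Groth.Agent.Sga3B.PtProp Groth.Agent.Sga3B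
open Groth.Agent.Sga3.H812.Res Groth.Agent.Sga3.H812.Univ Groth.Agent.Sga3.H812.Eqv
open Groth.Agent.Sga3.H812.SelfStr Groth.Agent.Sga3.H812.Dict
open Groth.Agent.Redsub.H649.ConjPts Groth.Agent.Sga3.H813.RepCrit

namespace Groth.Agent.Sga3.H812.Sch

noncomputable section

universe u

variable {R : Type u} [CommRing R]

section Alg

variable {C : Type u} [CommRing C] [HopfAlgebra R C] {r : ℕ}
variable {G : Over (Spec (CommRingCat.of R))} [GrpObj G] (e : sp R C ≅ G) [IsMonHom e.hom]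
variable {i : Red.DS (Spec (CommRingCat.of R)) (Fin r → ℤ) ⟶ G}
  {F₀ : WithConv (C →ₐ[R] MonoidAlgebra R (Multiplicative (Fin r → ℤ)) ⊗[R] R)}

lemma corr_bc0 (hF : Corr (dsStr R R (Fin r → ℤ)) (selfStr e) i F₀) (K : Type u) [CommRing K] [Algebra R K] :
    Corr ((dsStr R R (Fin r → ℤ)).bc K) ((selfStr e).bc K) ((Over.pullback (q R K)).map i) (bc0 K F₀) := by
  have h1 := corr_bc hF K
  have h2 : IsScalarTower.toAlgHom R R K = Algebra.ofId R K := Subsingleton.elim _ _
  rw [h2] at h1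
  exact h1

variable [IsAffineHom G.hom] [LocallyOfFiniteType G.hom]

theorem h1 (hi : Red.IsMaximalTorus i) (hF : Corr (dsStr R R (Fin r → ℤ)) (selfStr e) i F₀)
    (K : Type u) [Field K] [IsAlgClosed K] [Algebra R K]
    (F : WithConv (C →ₐ[R] MonoidAlgebra R (Multiplicative (Fin r → ℤ)) ⊗[R] K)) (hFh : IsHom F) (hFm : AMono F) :
    ∃ (g : WithConv (C →ₐ[R] K)) (φ : Multiplicative (Fin r → ℤ) ≃* Multiplicative (Fin r → ℤ)),
      F = rg φ.toMonoidHom (ob F₀ g) := by
  have hiK : Red.IsMaximalTorus ((Over.pullback (q R K)).map i) :=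
    Groth.Agent.Sga3.H665.TorBcNA.isMaximalTorus_bc (q R K) hi
  have a1 : IsAffineHom (Red.bc (q R K) G).hom :=
    MorphismProperty.pullback_snd (P := @IsAffineHom) _ _ inferInstance
  have a2 : LocallyOfFiniteType (Red.bc (q R K) G).hom :=
    MorphismProperty.pullback_snd (P := @LocallyOfFiniteType) _ _ inferInstance
  have a3 : IsAffineHom (Red.bc (q R K) (Red.DS (Spec (CommRingCat.of R)) (Fin r → ℤ))).hom :=
    MorphismProperty.pullback_snd (P := @IsAffineHom) _ _ inferInstance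
  have a4 := MaxTorusCrit.isAffine_left_of_isAffineHom (Red.bc (q R K) G)
  have a5 := MaxTorusCrit.isAffine_left_of_isAffineHom
    (Red.bc (q R K) (Red.DS (Spec (CommRingCat.of R)) (Fin r → ℤ)))
  exact Fld.exists_conj ((dsStr R R (Fin r → ℤ)).bc K) ((selfStr e).bc K)
    ⟨TorusAlgClosed.dsBcIso _ _⟩ hiK (corr_bc0 e hF K) hFh hFm

theorem h2 (hi : Red.IsMaximalTorus i) (hF : Corr (dsStr R R (Fin r → ℤ)) (selfStr e) i F₀)
    (hF₀ : IsHom F₀) (hm : AMono F₀)
    (K : Type u) [Field K] [IsAlgClosed K] [Algebra R K] (g h : WithConv (C →ₐ[R] K))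
    (hc : ∀ χ : Multiplicative (Fin r → ℤ) →* K,
        cj (pushG (pt (AlgHom.id R K) χ) (ob F₀ h)) (ob F₀ g) = ob F₀ g) :
    ∃ φ : Multiplicative (Fin r → ℤ) ≃* Multiplicative (Fin r → ℤ), ob F₀ g = rg φ.toMonoidHom (ob F₀ h) := by
  have hiK : Red.IsMaximalTorus ((Over.pullback (q R K)).map i) :=
    Groth.Agent.Sga3.H665.TorBcNA.isMaximalTorus_bc (q R K) hi
  have a1 : IsAffineHom (Red.bc (q R K) G).hom :=
    MorphismProperty.pullback_snd (P := @IsAffineHom) _ _ inferInstance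
  have a2 : LocallyOfFiniteType (Red.bc (q R K) G).hom :=
    MorphismProperty.pullback_snd (P := @LocallyOfFiniteType) _ _ inferInstance
  have a3 : IsAffineHom (Red.bc (q R K) (Red.DS (Spec (CommRingCat.of R)) (Fin r → ℤ))).hom :=
    MorphismProperty.pullback_snd (P := @IsAffineHom) _ _ inferInstance
  have a4 := MaxTorusCrit.isAffine_left_of_isAffineHom (Red.bc (q R K) G)
  have a5 := MaxTorusCrit.isAffine_left_of_isAffineHom
    (Red.bc (q R K) (Red.DS (Spec (CommRingCat.of R)) (Fin r → ℤ)))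
  have hmo : ∀ (g : WithConv (C →ₐ[R] K)), AMono (ob F₀ g) :=
    fun g => Locus.AMono.cj (Locus.AMono.map hm _) g
  exact Fld.exists_eq_of_commute ((dsStr R R (Fin r → ℤ)).bc K) ((selfStr e).bc K)
    ⟨TorusAlgClosed.dsBcIso _ _⟩ hiK (isHom_ob hF₀ g) (hmo g) (isHom_ob hF₀ h) (hmo h) hc

end Alg

section EQ

variable {C : Type u} [CommRing C] [HopfAlgebra R C] {r : ℕ}
variable {G : Over (Spec (CommRingCat.of R))} [GrpObj G] (e : sp R C ≅ G) [IsMonHom e.hom]
variable {i : Red.DS (Spec (CommRingCat.of R)) (Fin r → ℤ) ⟶ G}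
  {F₀ : WithConv (C →ₐ[R] MonoidAlgebra R (Multiplicative (Fin r → ℤ)) ⊗[R] R)}

/-- an affine open neighbourhood -/
lemma exists_affine_nhd (X : Over (Spec (CommRingCat.of R))) (x : X.left) :
    ∃ (A : Type u) (_ : CommRing A) (_ : Algebra R A) (u : sp R A ⟶ X), IsOpenImmersion u.left ∧
      x ∈ Set.range u.left := by
  obtain ⟨U, hU, hx, -⟩ := exists_isAffineOpen_mem_and_subset (x := x) (U := ⊤) trivial
  have : IsAffine U.toScheme := hU
  let V : Over (Spec (CommRingCat.of R)) := Over.mk (U.ι ≫ X.hom)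
  have : IsAffine V.left := hU
  obtain ⟨A, _, _, ⟨α⟩⟩ := exists_iso_sp V
  let v : V ⟶ X := Over.homMk U.ι
  refine ⟨A, inferInstance, inferInstance, α.hom ≫ v, ?_, ?_⟩
  · rw [Over.comp_left]
    have : IsOpenImmersion v.left := inferInstanceAs (IsOpenImmersion U.ι)
    infer_instance
  · have h1 : x ∈ Set.range U.ι := by
      rw [Scheme.Opens.range_ι]
      exact hx
    obtain ⟨y, hy⟩ := h1
    refine ⟨α.inv.left y, ?_⟩
    rw [← Scheme.Hom.comp_apply]
    have h2 : α.inv.left ≫ (α.hom ≫ v).left = U.ι := by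
      rw [← Over.comp_left, Iso.inv_hom_id_assoc]
      rfl
    rw [h2]
    exact hy

theorem eQ_of_locEq [Mono i] (hF : Corr (dsStr R R (Fin r → ℤ)) (selfStr e) i F₀) (hF₀ : IsHom F₀)
    (hm : AMono F₀) {B : Type u} [CommRing B] [Algebra R B] (qa : B →ₐ[R] C)
    (hq : ∀ (A : Type u) [CommRing A] [Algebra R A] (g h : WithConv (C →ₐ[R] A)),
        g.ofConv.comp qa = h.ofConv.comp qa ↔ LocEq F₀ g h) : EQ i (e.inv ≫ spMap qa) := by
  have hgp : ∀ {A : Type u} [CommRing A] [Algebra R A] (g : WithConv (C →ₐ[R] A)),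
      gp e A g ≫ e.inv ≫ spMap qa = spMap (g.ofConv.comp qa) := by
    intro A _ _ g
    rw [gp_apply, Category.assoc, Iso.hom_inv_id_assoc, ← spMap_comp]
  have key : ∀ (X : Over (Spec (CommRingCat.of R))) (a b γ : X ⟶ G), a ≫ e.inv ≫ spMap qa = b ≫ e.inv ≫ spMap qa →
      InC i a γ → InC i b γ := by
    intro X a b γ hab hγ
    refine Loc.InC.of_local i fun x => ?_
    obtain ⟨A, _, _, u, hu, hx⟩ := exists_affine_nhd X x
    refine ⟨sp R A, u, hu, hx, ?_⟩
    obtain ⟨g, hg⟩ := (gp e A).surjective (u ≫ a)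
    obtain ⟨h, hh⟩ := (gp e A).surjective (u ≫ b)
    obtain ⟨c, hc⟩ := (gp e A).surjective (u ≫ γ)
    have h1 := InC.comp i hγ u
    rw [← hg, ← hc] at h1
    rw [← hh, ← hc]
    refine inC_of_locEq e hF g h c ?_ h1
    rw [← hq]
    apply spMap_injective
    rw [← hgp, ← hgp, hg, hh, Category.assoc, Category.assoc, hab]
  intro X a b
  constructor
  · intro hab Y y γ
    have h1 : (y ≫ a) ≫ e.inv ≫ spMap qa = (y ≫ b) ≫ e.inv ≫ spMap qa := by
      rw [Category.assoc, Category.assoc, hab]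
    exact ⟨key Y _ _ γ h1, key Y _ _ γ h1.symm⟩
  · intro H
    have hloc : ∀ x : X.left, ∃ (A : Type u) (_ : CommRing A) (_ : Algebra R A) (u : sp R A ⟶ X),
        IsOpenImmersion u.left ∧ x ∈ Set.range u.left := exists_affine_nhd X
    choose A c1 c2 u hu hx using hloc
    have s1 : Surjective (Sigma.desc fun x => (u x).left) := Loc.surjective_desc _ hx
    have s2 : Flat (Sigma.desc fun x => (u x).left) := IsZariskiLocalAtSource.sigmaDesc fun x => inferInstance
    have s3 : Epi (Sigma.desc fun x => (u x).left) := Flat.epi_of_flat_of_surjective _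
    ext1
    rw [← cancel_epi (Sigma.desc fun x => (u x).left)]
    apply Sigma.hom_ext
    intro x
    have e1 : ∀ {Z : Scheme.{u}} (k : X.left ⟶ Z), Sigma.ι (fun x => (sp R (A x)).left) x ≫
        (Sigma.desc fun x => (u x).left) ≫ k = (u x).left ≫ k := fun k => by
      rw [← Category.assoc, Sigma.ι_desc]
    rw [e1, e1]
    have h1 : u x ≫ a ≫ e.inv ≫ spMap qa = u x ≫ b ≫ e.inv ≫ spMap qa := by
      obtain ⟨g, hg⟩ := (gp e (A x)).surjective (u x ≫ a)
      obtain ⟨h, hh⟩ := (gp e (A x)).surjective (u x ≫ b)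
      rw [← Category.assoc, ← Category.assoc (u x) b, ← hg, ← hh, hgp, hgp]
      congr 1
      rw [hq]
      refine locEq_of_inC e hF hF₀ hm g h fun Y y γ => ?_
      rw [hg, hh, ← Category.assoc, ← Category.assoc]
      exact H Y (y ≫ u x) γ
    exact congrArg (fun k => k.left) h1

end EQ

/-- **The quotient of a smooth affine group by the normaliser of a split maximal torus.** -/
theorem exists_quotient (G : Over (Spec (CommRingCat.of R))) [GrpObj G] [IsAffineHom G.hom] [Smooth G.hom] {r : ℕ}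
    (i : Red.DS (Spec (CommRingCat.of R)) (Fin r → ℤ) ⟶ G) (hi : Red.IsMaximalTorus i) :
    ∃ (M : Over (Spec (CommRingCat.of R))) (p : G ⟶ M), IsAffine M.left ∧ Smooth p.left ∧ Surjective p.left ∧
      EQ i p := by
  have hiM : IsMonHom i := hi.1
  have hiMo : Mono i := hi.2.1
  have := MaxTorusCrit.isAffine_left_of_isAffineHom G
  obtain ⟨C, _, _, e, he⟩ := AffHopf.exists_hopf G
  have hsm := AffHopf.smooth_of_iso e
  obtain ⟨F₀, hF⟩ := exists_corr (dsStr R R (Fin r → ℤ)) (selfStr e) i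
  have hF₀ : IsHom F₀ := isHom_of_isMonHom hF
  have hm : AMono F₀ := amono_of_mono hF
  obtain ⟨B, _, _, qa, hq1, hq2, hq3⟩ := exists_tor hF₀ hm (h1 e hi hF) (h2 e hi hF hF₀ hm)
  refine ⟨sp R B, e.inv ≫ spMap qa, ?_, ?_, ?_, eQ_of_locEq e hF hF₀ hm qa hq3⟩
  · show IsAffine (Spec _)
    infer_instance
  · rw [Over.comp_left]
    have h3 : Smooth (Spec.map (CommRingCat.ofHom qa.toRingHom)) := by
      rw [HasRingHomProperty.Spec_iff (P := @Smooth)]
      exact hq1
    have : Smooth (spMap qa).left := h3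
    infer_instance
  · rw [Over.comp_left]
    have : Surjective (spMap qa).left := ⟨hq2⟩
    infer_instance

end

end Groth.Agent.Sga3.H812.Sch
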