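import Groth.Agent.Sga3.H812.Rig
import Groth.Agent.Sga3B.MaxTorusCrit
import Groth.Agent.Sga3B.AffHopf

/-!
# Points of an affine group over `Spec R` with values in `R`-algebras
-/

set_option autoImplicit false

open CategoryTheory MonoidalCategory CartesianMonoidalCategory AlgebraicGeometry Limits Opposite
open TensorProduct WithConv
open scoped MonObj
open Groth.Agent.Sga3B.HaarDef Groth.Agent.Sga3B.AffTest Groth.Agent.Sga3B.PtData Groth.Agent.Sga3B.TorusLie
open Groth.Agent.Sga3B.TorusWt Groth.Agent.Sga3B.PtMor Groth.Agent.Sga3B.PtProp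
open Groth.Agent.Sga3.H812.Res Groth.Agent.Sga3.H812.Univ

namespace Groth.Agent.Sga3.H812.SelfStr

noncomputable section

universe u

variable {R C : Type u} [CommRing R] [CommRing C] [HopfAlgebra R C]

lemma alg_eq {A : Type u} [CommRing A] (a₁ a₂ : Algebra R A)
    (h : @IsScalarTower R R A _ a₂.toSMul a₁.toSMul) : a₁ = a₂ := by
  refine Algebra.algebra_ext a₁ a₂ fun r => ?_
  have h1 := h.smul_assoc r 1 1
  rw [smul_eq_mul, mul_one] at h1
  have h2 : a₂.toSMul.smul r 1 = a₁.toSMul.smul r 1 := by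
    refine h1.trans ?_
    congr 1
    exact @one_smul R A _ a₂.toModule.toMulAction 1
  have e1 : a₁.toSMul.smul r 1 = a₁.algebraMap r := ((@Algebra.algebraMap_eq_smul_one R A _ _ a₁ r)).symm
  have e2 : a₂.toSMul.smul r 1 = a₂.algebraMap r := ((@Algebra.algebraMap_eq_smul_one R A _ _ a₂ r)).symm
  rw [e1, e2] at h2
  exact h2.symm

/-- points with values in `A` -/
def gp {G : Over (Spec (CommRingCat.of R))} [GrpObj G] (i : sp R C ≅ G) [IsMonHom i.hom] (A : Type u) [CommRing A]
    [Algebra R A] : WithConv (C →ₐ[R] A) ≃* (sp R A ⟶ G) :=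
  (Spec.mapMulEquiv (R := R) (S := C) (T := A)).trans
    { toFun := fun x => x ≫ i.hom
      invFun := fun x => x ≫ i.inv
      left_inv := fun x => by simp
      right_inv := fun x => by simp
      map_mul' := fun x y => MonObj.mul_comp _ _ _ }

lemma gp_apply {G : Over (Spec (CommRingCat.of R))} [GrpObj G] (i : sp R C ≅ G) [IsMonHom i.hom] {A : Type u}
    [CommRing A] [Algebra R A] (x : WithConv (C →ₐ[R] A)) : gp i A x = spMap x.ofConv ≫ i.hom := rfl

/-- the point structure over `R` itself -/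
def selfStr {G : Over (Spec (CommRingCat.of R))} [GrpObj G] (i : sp R C ≅ G) [IsMonHom i.hom] : PtStr R C R G where
  e A _ a₁ a₂ t := (alg_eq a₁ a₂ t) ▸ (@gp R C _ _ _ G _ i _ A _ a₁)
  nat {A B} _ a₁ a₂ t _ b₁ b₂ t' f x := by
    obtain rfl := alg_eq a₁ a₂ t
    obtain rfl := alg_eq b₁ b₂ t'
    show spMap f ≫ gp i A x = gp i B _
    rw [gp_apply, gp_apply, ← Category.assoc, ← spMap_comp]
    rfl

lemma selfStr_e {G : Over (Spec (CommRingCat.of R))} [GrpObj G] (i : sp R C ≅ G) [IsMonHom i.hom] (A : Type u)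
    [CommRing A] [Algebra R A] : (selfStr i).e A = gp i A := rfl

end

end Groth.Agent.Sga3.H812.SelfStr
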