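import Groth.Agent.Sga3.H812.Res
import Groth.Agent.Sga3B.TorusUniv
import Groth.Agent.Sga3B.TorusNbhd
import Mathlib.RingTheory.Idempotents
import Mathlib.RingTheory.Spectrum.Prime.Topology

/-!
# Supports of homomorphisms from a diagonalisable group

`c` a finite generating family of `C`. A homomorphism `F : D(N)_X → G_X` with coefficients on `c` supported in
a set `W` on which `π : N →* Q` is injective is determined by its restriction to `D(Q)`; the locus where the weights
lie in a subgroup is open and closed; two automorphisms with the same effect on a monomorphism are equal.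
-/

set_option autoImplicit false

open TensorProduct Coalgebra Bialgebra WithConv
open Groth.Agent.Sga3B.HaarDef Groth.Agent.Sga3B.TorusWt Groth.Agent.Sga3B.TorusLie
open Groth.Agent.Sga3B.TorusUniv Groth.Agent.Sga3.H812.Res

namespace Groth.Agent.Sga3.H812.Supp

noncomputable section

universe u

variable {R : Type u} [CommRing R] {N Q : Type} [CommGroup N] [CommGroup Q]
variable {C : Type u} [CommRing C] [HopfAlgebra R C] {ι' : Type} {c : ι' → C}
variable {X Y : Type*} [CommRing X] [Algebra R X] [CommRing Y] [Algebra R Y]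

lemma ext_of_cf (hc : Algebra.adjoin R (Set.range c) = ⊤) {F F' : WithConv (C →ₐ[R] MonoidAlgebra R N ⊗[R] X)}
    (h : ∀ i n, cf F n (c i) = cf F' n (c i)) : F = F' := by
  apply WithConv.ofConv_injective
  refine AlgHom.ext_of_adjoin_eq_top hc ?_
  rintro _ ⟨i, rfl⟩
  exact coef_ext fun n => h i n

/-- **A homomorphism with weights in `W` is determined by its restriction to `D(Q)`**, if `π : N →* Q` is
injective on `W`. -/
theorem ext_of_rg (hc : Algebra.adjoin R (Set.range c) = ⊤) {W : Finset N} {π : N →* Q} (hπ : Set.InjOn π W)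
    {F F' : WithConv (C →ₐ[R] MonoidAlgebra R N ⊗[R] X)} (hF : SuppCl c F W) (hF' : SuppCl c F' W)
    (h : rg π F = rg π F') : F = F' := by
  apply ext_of_cf hc
  intro i n
  by_cases hn : n ∈ W
  · have h1 : coef R (π n) X (rs R π X (F (c i))) = coef R n X (F (c i)) :=
      coef_rs_of_injOn π (F (c i)) (fun n hn => hF i n hn) hπ hn
    have h2 : coef R (π n) X (rs R π X (F' (c i))) = coef R n X (F' (c i)) :=
      coef_rs_of_injOn π (F' (c i)) (fun n hn => hF' i n hn) hπ hn
    rw [cf_apply, cf_apply, ← h1, ← h2, ← rg_apply, ← rg_apply, h]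
  · rw [hF i n hn, hF' i n hn]

omit [HopfAlgebra R C] in
lemma SuppCl.subset [HopfAlgebra R C] {F : WithConv (C →ₐ[R] MonoidAlgebra R N ⊗[R] X)} {W W' : Finset N} (h : SuppCl c F W)
    (hW : W ⊆ W') : SuppCl c F W' := fun i n hn => h i n fun hn' => hn (hW hn')

lemma SuppCl.map {F : WithConv (C →ₐ[R] MonoidAlgebra R N ⊗[R] X)} {W : Finset N} (h : SuppCl c F W)
    (g : X →ₐ[R] Y) : SuppCl c (pushG (T (MonoidAlgebra R N) g) F) W := by
  intro i n hn
  rw [cf_pushG_T, push_apply, h i n hn, map_zero]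

lemma SuppCl.rg_equiv {F : WithConv (C →ₐ[R] MonoidAlgebra R N ⊗[R] X)} {W : Finset N} (h : SuppCl c F W)
    (φ : N ≃* Q) : SuppCl c (rg φ.toMonoidHom F) (W.map φ.toEquiv.toEmbedding) := by
  intro i q hq
  obtain ⟨n, rfl⟩ := φ.surjective q
  rw [cf_rg_equiv]
  refine h i n fun hn => hq ?_
  exact Finset.mem_map.2 ⟨n, hn, rfl⟩

lemma exists_suppCl [Finite ι'] (c : ι' → C) (F : WithConv (C →ₐ[R] MonoidAlgebra R N ⊗[R] X)) :
    ∃ W : Finset N, SuppCl c F W := by
  classical
  cases nonempty_fintype ι'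
  obtain ⟨s, hs⟩ := exists_finset_cf F (Finset.univ.image c)
  exact ⟨s, fun i n hn => hs _ (Finset.mem_image_of_mem _ (Finset.mem_univ i)) n hn⟩

/-! ### Homomorphisms with weights in a subgroup -/

lemma mem_range_rs_iff (H : Subgroup N) (z : MonoidAlgebra R N ⊗[R] X) :
    z ∈ (rs R H.subtype X).range ↔ ∀ n, n ∉ H → coef R n X z = 0 := by
  classical
  constructor
  · rintro ⟨w, rfl⟩ n hn
    obtain ⟨s, hs, -⟩ := exists_finset_coef w
    exact coef_rs_of_notMem H.subtype w hs fun m _ h => hn (h ▸ m.2)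
  · intro h
    obtain ⟨s, hs, -⟩ := exists_finset_coef z
    rw [eq_sum_coef z hs]
    refine Subalgebra.sum_mem _ fun n _ => ?_
    by_cases hn : n ∈ H
    · exact ⟨MonoidAlgebra.single (⟨n, hn⟩ : H) 1 ⊗ₜ coef R n X z, by
        show rs R H.subtype X _ = _
        rw [rs_single]; rfl⟩
    · rw [h n hn, TensorProduct.tmul_zero]
      exact Subalgebra.zero_mem _

lemma rs_injective {π : N →* Q} (hπ : Function.Injective π) : Function.Injective (rs R π X) := by
  intro z w h
  apply coef_ext
  intro n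
  classical
  obtain ⟨s, hs, -⟩ := exists_finset_coef z
  obtain ⟨t, ht, -⟩ := exists_finset_coef w
  have h1 := coef_rs_of_injOn π z (W := insert n (s ∪ t))
    (fun m hm => hs m fun h' => hm (Finset.mem_insert_of_mem (Finset.mem_union_left _ h'))) hπ.injOn
    (Finset.mem_insert_self _ _)
  have h2 := coef_rs_of_injOn π w (W := insert n (s ∪ t))
    (fun m hm => ht m fun h' => hm (Finset.mem_insert_of_mem (Finset.mem_union_right _ h'))) hπ.injOn
    (Finset.mem_insert_self _ _)
  rw [← h1, ← h2, h]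

lemma rg_injective {π : N →* Q} (hπ : Function.Injective π) :
    Function.Injective (rg π : WithConv (C →ₐ[R] MonoidAlgebra R N ⊗[R] X) → _) := by
  intro F F' h
  apply WithConv.ofConv_injective
  apply AlgHom.ext
  intro x
  apply rs_injective hπ
  exact congrArg (fun q : WithConv (C →ₐ[R] MonoidAlgebra R Q ⊗[R] X) => q x) h

/-- if the weights lie in `H`, the homomorphism factors through `D(N) → D(H)` -/
theorem exists_rg_of_supp (hc : Algebra.adjoin R (Set.range c) = ⊤) (H : Subgroup N)
    {F : WithConv (C →ₐ[R] MonoidAlgebra R N ⊗[R] X)} (h : ∀ i n, n ∉ H → cf F n (c i) = 0) :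
    ∃ F' : WithConv (C →ₐ[R] MonoidAlgebra R H ⊗[R] X), rg H.subtype F' = F := by
  have hr : ∀ x, F.ofConv x ∈ (rs R H.subtype X).range := by
    have : (⊤ : Subalgebra R C) ≤ ((rs R H.subtype X).range).comap F.ofConv := by
      rw [← hc, Algebra.adjoin_le_iff]
      rintro _ ⟨i, rfl⟩
      exact (mem_range_rs_iff H _).2 fun n hn => h i n hn
    intro x
    exact this (Algebra.mem_top (x := x))
  let e := AlgEquiv.ofInjective (rs R H.subtype X) (rs_injective H.subtype_injective)
  refine ⟨toConv ((e.symm : _ →ₐ[R] _).comp (F.ofConv.codRestrict _ hr)), ?_⟩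
  apply WithConv.ofConv_injective
  apply AlgHom.ext
  intro x
  have := e.apply_symm_apply (F.ofConv.codRestrict _ hr x)
  exact congrArg Subtype.val this

lemma cf_eq_zero_of_supp (hc : Algebra.adjoin R (Set.range c) = ⊤) (H : Subgroup N)
    {F : WithConv (C →ₐ[R] MonoidAlgebra R N ⊗[R] X)} (h : ∀ i n, n ∉ H → cf F n (c i) = 0) {n : N} (hn : n ∉ H)
    (x : C) : cf F n x = 0 := by
  obtain ⟨F', rfl⟩ := exists_rg_of_supp hc H h
  exact (mem_range_rs_iff H _).1 ⟨F' x, rfl⟩ n hn

lemma IsHom.of_rg_injective {π : N →* Q} (hπ : Function.Injective π)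
    {F : WithConv (C →ₐ[R] MonoidAlgebra R N ⊗[R] X)} (hF : IsHom (rg π F)) : IsHom F := by
  have hinj : Function.Injective ((T (MonoidAlgebra R Q) (rs R π X)).comp
      (rs R π (MonoidAlgebra R N ⊗[R] X))) := by
    have h1 : Function.Injective (T (MonoidAlgebra R Q) (rs R π X)) := by
      intro a b hab
      apply coef_ext
      intro n
      apply rs_injective (R := R) (X := X) hπ
      rw [← coef_T, ← coef_T, hab]
    exact h1.comp (rs_injective hπ)
  unfold IsHom at hF ⊢
  have key : ∀ {a b : WithConv (C →ₐ[R] MonoidAlgebra R N ⊗[R] (MonoidAlgebra R N ⊗[R] X))},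
      pushG ((T (MonoidAlgebra R Q) (rs R π X)).comp (rs R π (MonoidAlgebra R N ⊗[R] X))) a =
      pushG ((T (MonoidAlgebra R Q) (rs R π X)).comp (rs R π (MonoidAlgebra R N ⊗[R] X))) b → a = b := by
    intro a b hab
    apply WithConv.ofConv_injective
    apply AlgHom.ext
    intro x
    apply hinj
    exact congrArg (fun q : WithConv (C →ₐ[R] MonoidAlgebra R Q ⊗[R] (MonoidAlgebra R Q ⊗[R] X)) => q x) hab
  apply key
  rw [map_mul]
  unfold rg at hF
  simp only [pushG_comp] at hF ⊢
  rw [rs_comp_δ]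
  have e1 : ((T (MonoidAlgebra R Q) (rs R π X)).comp (rs R π (MonoidAlgebra R N ⊗[R] X))).comp
      (T (MonoidAlgebra R N) (ι R (MonoidAlgebra R N) X)) =
      (T (MonoidAlgebra R Q) (ι R (MonoidAlgebra R Q) X)).comp (rs R π X) := by
    rw [AlgHom.comp_assoc, rs_comp_T, ← AlgHom.comp_assoc, T_comp, rs_comp_ι]
  have e2 : ((T (MonoidAlgebra R Q) (rs R π X)).comp (rs R π (MonoidAlgebra R N ⊗[R] X))).comp
      (ι R (MonoidAlgebra R N) (MonoidAlgebra R N ⊗[R] X)) =
      (ι R (MonoidAlgebra R Q) (MonoidAlgebra R Q ⊗[R] X)).comp (rs R π X) := by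
    rw [AlgHom.comp_assoc, rs_comp_ι, T_comp_ι]
  rw [e1, e2]
  exact hF

end

end Groth.Agent.Sga3.H812.Supp
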