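import Groth.Agent.Sga3.H812.Locus
import Mathlib.RingTheory.Smooth.Basic
import Mathlib.RingTheory.FinitePresentation

/-!
# The universal homomorphism from a diagonalisable group, orbit maps

* `adjoin_cf_eq_top`: the algebra representing homomorphisms with weights in `W` is generated by the coefficients of
  the universal homomorphism.
* `surjective_of_rg`: restriction to `D(Q)` is a closed immersion if `N → Q` is injective on `W`.
* `formallySmooth_orbit`: the orbit map of a homomorphism is formally smooth.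
-/

set_option autoImplicit false

open TensorProduct Coalgebra Bialgebra WithConv
open Groth.Agent.Sga3B.HaarDef Groth.Agent.Sga3B.TorusWt Groth.Agent.Sga3B.TorusLie
open Groth.Agent.Sga3B.TorusUniv Groth.Agent.Sga3.H812.Res Groth.Agent.Sga3.H812.Supp

namespace Groth.Agent.Sga3.H812.Univ

noncomputable section

universe u

variable {R : Type u} [CommRing R] {N Q : Type} [CommGroup N] [CommGroup Q]
variable {C : Type u} [CommRing C] [HopfAlgebra R C] {ι' : Type} {c : ι' → C}
variable {P : Type u} [CommRing P] [Algebra R P] {Y : Type u} [CommRing Y] [Algebra R Y]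

/-- `U` is the universal homomorphism with weights in `W` -/
structure IsUniv (c : ι' → C) (W : Finset N) (U : WithConv (C →ₐ[R] MonoidAlgebra R N ⊗[R] P)) : Prop where
  isHom : IsHom U
  supp : SuppCl c U W
  univ : ∀ (A : Type u) [CommRing A] [Algebra R A] (F : WithConv (C →ₐ[R] MonoidAlgebra R N ⊗[R] A)),
    IsHom F → SuppCl c F W → ∃! g : P →ₐ[R] A, pushG (T (MonoidAlgebra R N) g) U = F

/-- two points with the same pulled back homomorphism are equal -/
def IsSep (U : WithConv (C →ₐ[R] MonoidAlgebra R N ⊗[R] P)) : Prop :=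
  ∀ (A : Type u) [CommRing A] [Algebra R A] (g g' : P →ₐ[R] A),
    pushG (T (MonoidAlgebra R N) g) U = pushG (T (MonoidAlgebra R N) g') U → g = g'

lemma IsUniv.isSep {W : Finset N} {U : WithConv (C →ₐ[R] MonoidAlgebra R N ⊗[R] P)} (hU : IsUniv c W U) :
    IsSep U := fun A _ _ g _ h =>
  (hU.univ A _ (hU.isHom.map g) (SuppCl.map hU.supp g)).unique rfl h.symm

lemma T_injective {f : P →ₐ[R] Y} (hf : Function.Injective f) :
    Function.Injective (T (MonoidAlgebra R N) f) := by
  intro a b h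
  apply coef_ext
  intro n
  apply hf
  rw [← coef_T, ← coef_T, h]

theorem adjoin_cf_eq_top (hc : Algebra.adjoin R (Set.range c) = ⊤) {W : Finset N}
    {U : WithConv (C →ₐ[R] MonoidAlgebra R N ⊗[R] P)} (hU : IsUniv c W U) :
    Algebra.adjoin R (Set.range fun p : ι' × N => cf U p.2 (c p.1)) = ⊤ := by
  classical
  set B := Algebra.adjoin R (Set.range fun p : ι' × N => cf U p.2 (c p.1)) with hB
  have hinj : Function.Injective (T (MonoidAlgebra R N) B.val) := T_injective Subtype.val_injective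
  have hr : ∀ x, U.ofConv x ∈ (T (MonoidAlgebra R N) B.val).range := by
    have : (⊤ : Subalgebra R C) ≤ ((T (MonoidAlgebra R N) B.val).range).comap U.ofConv := by
      rw [← hc, Algebra.adjoin_le_iff]
      rintro _ ⟨i, rfl⟩
      show U.ofConv (c i) ∈ (T (MonoidAlgebra R N) B.val).range
      have h1 := eq_sum_coef (U.ofConv (c i)) (s := W) (fun n hn => hU.supp i n hn)
      rw [h1]
      refine Subalgebra.sum_mem _ fun n _ => ?_
      exact ⟨MonoidAlgebra.single n 1 ⊗ₜ (⟨cf U n (c i), Algebra.subset_adjoin ⟨(i, n), rfl⟩⟩ : B), rfl⟩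
    intro x
    exact this (Algebra.mem_top (x := x))
  let e := AlgEquiv.ofInjective (T (MonoidAlgebra R N) B.val) hinj
  let U' : WithConv (C →ₐ[R] MonoidAlgebra R N ⊗[R] B) :=
    toConv ((e.symm : _ →ₐ[R] _).comp (U.ofConv.codRestrict _ hr))
  have hU' : pushG (T (MonoidAlgebra R N) B.val) U' = U := by
    apply WithConv.ofConv_injective
    apply AlgHom.ext
    intro x
    have := e.apply_symm_apply (U.ofConv.codRestrict _ hr x)
    exact congrArg Subtype.val this
  have hU'h : IsHom U' := by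
    have h2 : Function.Injective (T (MonoidAlgebra R N) (T (MonoidAlgebra R N) B.val)) := T_injective hinj
    have key : ∀ {a b : WithConv (C →ₐ[R] MonoidAlgebra R N ⊗[R] (MonoidAlgebra R N ⊗[R] B))},
        pushG (T (MonoidAlgebra R N) (T (MonoidAlgebra R N) B.val)) a =
          pushG (T (MonoidAlgebra R N) (T (MonoidAlgebra R N) B.val)) b → a = b := by
      intro a b hab
      apply WithConv.ofConv_injective
      apply AlgHom.ext
      intro x
      apply h2
      exact congrArg (fun q : WithConv (C →ₐ[R] MonoidAlgebra R N ⊗[R] (MonoidAlgebra R N ⊗[R] P)) => q x) hab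
    have h3 := hU.isHom
    rw [← hU'] at h3
    unfold IsHom at h3 ⊢
    apply key
    rw [map_mul]
    simp only [pushG_comp] at h3 ⊢
    rw [T_comp, T_comp_ι, ← δ_comp_T, T_comp_ι]
    rw [T_comp] at h3
    exact h3
  have hU's : SuppCl c U' W := by
    intro i n hn
    have h4 := hU.supp i n hn
    rw [← hU', cf_pushG_T, push_apply] at h4
    exact Subtype.val_injective h4
  obtain ⟨g, hg, -⟩ := hU.univ B U' hU'h hU's
  have h5 : B.val.comp g = AlgHom.id R P := by
    apply hU.isSep P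
    rw [← T_comp, ← pushG_comp, hg, hU', pushG_T_id]
  rw [eq_top_iff]
  intro p _
  have := AlgHom.congr_fun h5 p
  rw [AlgHom.id_apply] at this
  rw [← this]
  exact (g p).2

theorem surjective_of_rg (hc : Algebra.adjoin R (Set.range c) = ⊤) {W : Finset N} {π : N →* Q}
    (hπ : Set.InjOn π W) {V : WithConv (C →ₐ[R] MonoidAlgebra R N ⊗[R] Y)} (hV : IsUniv c W V)
    {U : WithConv (C →ₐ[R] MonoidAlgebra R Q ⊗[R] P)} (ρ : P →ₐ[R] Y)
    (h : pushG (T (MonoidAlgebra R Q) ρ) U = rg π V) : Function.Surjective ρ := by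
  rw [← AlgHom.range_eq_top, eq_top_iff, ← adjoin_cf_eq_top hc hV, Algebra.adjoin_le_iff]
  rintro _ ⟨⟨i, n⟩, rfl⟩
  show cf V n (c i) ∈ ρ.range
  by_cases hn : n ∈ W
  · have h1 : coef R (π n) Y (rs R π Y (V (c i))) = coef R n Y (V (c i)) :=
      coef_rs_of_injOn π (V (c i)) (fun n hn => hV.supp i n hn) hπ hn
    rw [← rg_apply, ← h] at h1
    rw [cf_apply, ← h1]
    refine ⟨coef R (π n) P (U (c i)), ?_⟩
    exact (coef_T ρ (π n) (U (c i))).symm
  · rw [hV.supp i n hn]
    exact Subalgebra.zero_mem _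

/-! ### Orbit maps -/

/-- base change of a homomorphism over `R` -/
def bc0 (A : Type*) [CommRing A] [Algebra R A] (F₀ : WithConv (C →ₐ[R] MonoidAlgebra R N ⊗[R] R)) :
    WithConv (C →ₐ[R] MonoidAlgebra R N ⊗[R] A) := pushG (T (MonoidAlgebra R N) (Algebra.ofId R A)) F₀

/-- `g F₀ g⁻¹` -/
def ob (F₀ : WithConv (C →ₐ[R] MonoidAlgebra R N ⊗[R] R)) {A : Type*} [CommRing A] [Algebra R A]
    (g : WithConv (C →ₐ[R] A)) : WithConv (C →ₐ[R] MonoidAlgebra R N ⊗[R] A) := cj g (bc0 A F₀)

lemma T_bc0 {A B : Type*} [CommRing A] [Algebra R A] [CommRing B] [Algebra R B]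
    (F₀ : WithConv (C →ₐ[R] MonoidAlgebra R N ⊗[R] R)) (f : A →ₐ[R] B) :
    pushG (T (MonoidAlgebra R N) f) (bc0 A F₀) = bc0 B F₀ := by
  rw [bc0, bc0, pushG_comp, T_comp]
  congr 3
  ext

lemma isHom_bc0 {F₀ : WithConv (C →ₐ[R] MonoidAlgebra R N ⊗[R] R)} (hF₀ : IsHom F₀)
    (A : Type*) [CommRing A] [Algebra R A] : IsHom (bc0 A F₀) := hF₀.map _

lemma T_ob {A B : Type*} [CommRing A] [Algebra R A] [CommRing B] [Algebra R B]
    (F₀ : WithConv (C →ₐ[R] MonoidAlgebra R N ⊗[R] R)) (g : WithConv (C →ₐ[R] A)) (f : A →ₐ[R] B) :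
    pushG (T (MonoidAlgebra R N) f) (ob F₀ g) = ob F₀ (pushG f g) := by
  rw [ob, ob, cj_T, T_bc0]

lemma isHom_ob {F₀ : WithConv (C →ₐ[R] MonoidAlgebra R N ⊗[R] R)} (hF₀ : IsHom F₀)
    {A : Type*} [CommRing A] [Algebra R A] (g : WithConv (C →ₐ[R] A)) : IsHom (ob F₀ g) :=
  isHom_cj (isHom_bc0 hF₀ A) g

lemma rg_bc0 (π : N →* Q) (F₀ : WithConv (C →ₐ[R] MonoidAlgebra R N ⊗[R] R)) (A : Type*) [CommRing A]
    [Algebra R A] : rg π (bc0 A F₀) = bc0 A (rg π F₀) := by
  rw [bc0, bc0, rg_T]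

lemma rg_ob (π : N →* Q) (F₀ : WithConv (C →ₐ[R] MonoidAlgebra R N ⊗[R] R)) {A : Type*} [CommRing A]
    [Algebra R A] (g : WithConv (C →ₐ[R] A)) : rg π (ob F₀ g) = ob (rg π F₀) g := by
  rw [ob, ob, rg_cj, rg_bc0]

lemma ob_mul (F₀ : WithConv (C →ₐ[R] MonoidAlgebra R N ⊗[R] R)) {A : Type*} [CommRing A] [Algebra R A]
    (g h : WithConv (C →ₐ[R] A)) : ob F₀ (g * h) = cj g (ob F₀ h) := cj_mul _ _ _

variable (R C) in
/-- the universal point of `G` -/
def gu : WithConv (C →ₐ[R] C) := toConv (AlgHom.id R C)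

lemma pushG_gu {A : Type*} [CommRing A] [Algebra R A] (g : WithConv (C →ₐ[R] A)) :
    pushG g.ofConv (gu R C) = g := rfl

/-- The conjugates of `F₀` have weights in a fixed finite set. -/
theorem exists_supp_ob [Finite ι'] (c : ι' → C) (F₀ : WithConv (C →ₐ[R] MonoidAlgebra R N ⊗[R] R)) :
    ∃ W : Finset N, ∀ (A : Type u) [CommRing A] [Algebra R A] (g : WithConv (C →ₐ[R] A)),
      SuppCl c (ob F₀ g) W := by
  obtain ⟨W, hW⟩ := exists_suppCl c (ob F₀ (gu R C))
  refine ⟨W, fun A _ _ g => ?_⟩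
  rw [← pushG_gu g, ← T_ob]
  exact SuppCl.map hW _

/-- **The orbit map is formally smooth.** -/
theorem formallySmooth_orbit [Algebra.FormallySmooth R C] [Algebra P C] [IsScalarTower R P C]
    {F₀ : WithConv (C →ₐ[R] MonoidAlgebra R Q ⊗[R] R)} (hF₀ : IsHom F₀)
    {U : WithConv (C →ₐ[R] MonoidAlgebra R Q ⊗[R] P)} (hU : IsHom U) (hs : IsSep U)
    (hq : pushG (T (MonoidAlgebra R Q) (IsScalarTower.toAlgHom R P C)) U = ob F₀ (gu R C)) :
    Algebra.FormallySmooth P C := by
  refine Algebra.FormallySmooth.of_comp_surjective ?_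
  intro B _ _ I hI f
  letI : Algebra R B := Algebra.compHom B (algebraMap R P)
  haveI : IsScalarTower R P B := IsScalarTower.of_algebraMap_eq fun _ => rfl
  haveI : IsScalarTower R P (B ⧸ I) := IsScalarTower.of_algebraMap_eq fun _ => rfl
  let β : P →ₐ[R] B := IsScalarTower.toAlgHom R P B
  let mk : B →ₐ[R] B ⧸ I := Ideal.Quotient.mkₐ R I
  have hmk : Function.Surjective mk := Ideal.Quotient.mk_surjective
  have hker : (RingHom.ker mk) ^ 2 = ⊥ := by
    rw [← hI]
    congr 1
    exact Ideal.Quotient.mkₐ_ker R I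
  obtain ⟨f₁, hf₁⟩ := exists_algHom_lift (C := C) hmk hker (f.restrictScalars R)
  have hf₁' : pushG mk (toConv f₁) = toConv (f.restrictScalars R) := WithConv.ofConv_injective hf₁
  have hfq : (f.restrictScalars R).comp (IsScalarTower.toAlgHom R P C) = mk.comp β := by
    apply AlgHom.ext
    intro p
    exact f.commutes p
  obtain ⟨g, hg1, hg2⟩ := exists_conj_isHom (haarMonoidAlgebra Q) hmk hker (isHom_ob hF₀ (toConv f₁)) (hU.map β)
    (by
      rw [T_ob, hf₁', pushG_comp, T_comp, ← hfq, ← T_comp, ← pushG_comp, hq, T_ob]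
      rfl)
  have hg3 : pushG (T (MonoidAlgebra R Q) β) U = ob F₀ (g * toConv f₁) := by
    rw [hg2, ob_mul]
    rfl
  let h : C →ₐ[R] B := (g * toConv f₁).ofConv
  have h1 : h.comp (IsScalarTower.toAlgHom R P C) = β := by
    apply hs
    rw [hg3, ← T_comp, ← pushG_comp, hq, T_ob]
    rfl
  have h2 : mk.comp h = f.restrictScalars R := by
    have : pushG mk (g * toConv f₁) = toConv (f.restrictScalars R) := by
      rw [map_mul, hg1, one_mul, hf₁']
    exact congrArg WithConv.ofConv this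
  refine ⟨{ h with commutes' := fun p => AlgHom.congr_fun h1 p }, ?_⟩
  apply AlgHom.ext
  intro x
  exact AlgHom.congr_fun h2 x

end

end Groth.Agent.Sga3.H812.Univ
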